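import Cfsg.Agent.H794.GUT.Bridge
import Cfsg.Agent.H603.Weil.GU

/-!
# The class data of `GU_n(q)` over a finite field; the Weil kernel (S4537, helper794)

* `TDcomap` : restriction of type data to a set of indices containing all indices of degree at most `n`;
* `typeDataK hF hK n hn : TypeData (dOrb K (-q)) (-q) (GU n F q) n` for a finite field `K` over `F` with
  `(-q) ^ k - 1 ∣ |Kˣ|` for `0 < k ≤ N` and `n ≤ N`; `typeDataK_typ : typ g [y] = mcol g y`;
* `finrank_homSpK`, `weilK` : the Weil kernel of `GU_n × GU_m` as a function of the types.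
-/

set_option autoImplicit false

open Module Polynomial

namespace Cfsg.Agent.H794.GUT

open Cfsg Cfsg.Agent.H186 Cfsg.Agent.H152 Cfsg.Agent.H615.GU Cfsg.Agent.H174 Cfsg.Agent.ClassicalGeometry.GUBasic

universe u v w x

/-! ### restriction of type data -/

section comap

variable {I : Type u} {I' : Type v} {d : I → ℕ} {d' : I' → ℕ} {Q : ℤ} (e : I' ↪ I) (hd : ∀ i, d (e i) = d' i)

/-- extension of types by zero -/
noncomputable def emb (lam : Ty I') : Ty I := Finsupp.embDomain e lam

/-- restriction of types -/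
noncomputable def res (lam : Ty I) : Ty I' := Finsupp.comapDomain e lam e.injective.injOn

theorem emb_apply (lam : Ty I') (i : I') : emb e lam (e i) = lam i := Finsupp.embDomain_apply_self _ _ _

theorem emb_notin (lam : Ty I') {i : I} (h : i ∉ Set.range e) : emb e lam i = 0 := Finsupp.embDomain_of_notMem_range _ _ _ h

theorem res_apply (lam : Ty I) (i : I') : res e lam i = lam (e i) := rfl

theorem emb_res {lam : Ty I} (h : ∀ i, lam i ≠ 0 → i ∈ Set.range e) : emb e (res e lam) = lam := by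
  refine Finsupp.ext fun i => ?_
  by_cases hi : i ∈ Set.range e
  · obtain ⟨j, rfl⟩ := hi
    rw [emb_apply, res_apply]
  · rw [emb_notin e _ hi]
    by_contra hcon
    exact hi (h i (Ne.symm hcon))

theorem res_emb (lam : Ty I') : res e (emb e lam) = lam := by
  refine Finsupp.ext fun i => ?_
  rw [res_apply, emb_apply]

theorem emb_support (lam : Ty I') : (emb e lam).support = lam.support.map e := Finsupp.support_embDomain _ _

include hd in
theorem tdeg_emb (lam : Ty I') : tdeg d (emb e lam) = tdeg d' lam := by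
  rw [tdeg, tdeg, Finsupp.sum, Finsupp.sum, emb_support, Finset.sum_map]
  exact Finset.sum_congr rfl fun i _ => by rw [emb_apply, hd]

include hd in
theorem tip_emb (lam mu : Ty I') : tip d (emb e lam) (emb e mu) = tip d' lam mu := by
  rw [tip, tip, Finsupp.sum, Finsupp.sum, emb_support, Finset.sum_map]
  exact Finset.sum_congr rfl fun i _ => by rw [emb_apply, emb_apply, hd]

include hd in
theorem Ag_emb (lam : Ty I') : Ag d Q (emb e lam) = Ag d' Q lam := by
  rw [Ag, Ag, emb_support, Finset.prod_map]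
  exact Finset.prod_congr rfl fun i _ => by rw [emb_apply, hd]

theorem size_pos {l : Col} (h : l ≠ 0) : 0 < l.size := by
  by_contra hcon
  apply h
  refine Col.ext fun i => ?_
  rw [Col.zero_apply, Col.apply_of_size_le (by omega)]

theorem mem_range_of_deg {n : ℕ} {lam : Ty I} (hlam : tdeg d lam = n) (hr : ∀ i, d i ≤ n → i ∈ Set.range e) (i : I)
    (hi : lam i ≠ 0) : i ∈ Set.range e := by
  apply hr
  have h1 : d i * (lam i).size ≤ n := by
    rw [← hlam, tdeg, Finsupp.sum]
    exact Finset.single_le_sum (f := fun i => d i * (lam i).size) (fun _ _ => Nat.zero_le _)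
      (Finsupp.mem_support_iff.2 hi)
  exact (Nat.le_mul_of_pos_right _ (size_pos hi)).trans h1

/-- restriction of type data -/
noncomputable def TDcomap {G : Type w} [Group G] {n : ℕ} (D : TypeData d Q G n) (hr : ∀ i, d i ≤ n → i ∈ Set.range e) :
    TypeData d' Q G n where
  typ g := res e (D.typ g)
  conj g h := by rw [D.conj]
  deg g := by rw [← tdeg_emb e hd, emb_res e (mem_range_of_deg e (D.deg g) hr), D.deg]
  sep g g' h := D.sep g g' (by
    rw [← emb_res e (mem_range_of_deg e (D.deg g) hr), h, emb_res e (mem_range_of_deg e (D.deg g') hr)])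
  card lam hlam := by
    have h1 := D.card (emb e lam) (by rw [tdeg_emb e hd, hlam])
    rw [Ag_emb e hd] at h1
    rw [← h1]
    congr 2
    refine Nat.card_congr (Equiv.subtypeEquivRight fun g => ?_)
    constructor
    · rintro rfl
      exact (emb_res e (mem_range_of_deg e (D.deg g) hr)).symm
    · intro h
      rw [h, res_emb]

end comap

/-! ### the orbits over a finite field -/

section orbits

variable {F : Type u} [Field F] [Fintype F] {K : Type v} [Field K] [Finite K] [Algebra F K] {q N : ℕ}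

instance algIsAlg : Algebra.IsAlgebraic F (AlgebraicClosure K) := Algebra.IsAlgebraic.trans F K (AlgebraicClosure K)

/-- the units of the closure -/
noncomputable def iu (K : Type v) [Field K] : Kˣ →* (AlgebraicClosure K)ˣ :=
  Units.map (algebraMap K (AlgebraicClosure K)).toMonoidHom

omit [Finite K] in
theorem iu_val (x : Kˣ) : ((iu K x : (AlgebraicClosure K)ˣ) : AlgebraicClosure K) = algebraMap K _ (x : K) := rfl

theorem iu_injective (K : Type v) [Field K] : Function.Injective (iu K) :=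
  Units.map_injective (algebraMap K (AlgebraicClosure K)).injective

/-- the map on orbits -/
noncomputable def oe (K : Type v) [Field K] (Q : ℤ) : Orb K Q ↪ Orb (AlgebraicClosure K) Q where
  toFun := Quotient.map (iu K) (fun x y => by
    rintro ⟨i, j, h⟩
    exact ⟨i, j, by rw [← map_zpow, ← map_zpow, h]⟩)
  inj' := by
    intro a b
    induction a using Quotient.inductionOn with | _ x => ?_
    induction b using Quotient.inductionOn with | _ y => ?_
    intro h
    obtain ⟨i, j, h1⟩ := Quotient.exact h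
    rw [← map_zpow, ← map_zpow] at h1
    exact Quotient.sound ⟨i, j, iu_injective K h1⟩

omit [Finite K] in
theorem oe_mk (Q : ℤ) (x : Kˣ) : oe K Q (Quotient.mk (orbSetoid K Q) x) = Quotient.mk (orbSetoid _ Q) (iu K x) := rfl

theorem mem_range_iu {y : (AlgebraicClosure K)ˣ} (h : y ^ Nat.card Kˣ = 1) : y ∈ Set.range (iu K) := by
  classical
  have hfu := Fintype.ofFinite Kˣ
  have hpos : 0 < Nat.card Kˣ := Nat.card_pos
  set S : Finset (AlgebraicClosure K) := Finset.univ.image fun x : Kˣ => ((iu K x : (AlgebraicClosure K)ˣ) : AlgebraicClosure K)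
  have hS : S.card = Nat.card Kˣ := by
    have h1 := Finset.card_image_of_injective (Finset.univ : Finset Kˣ) (Units.val_injective.comp (iu_injective K))
    rw [Finset.card_univ, ← Nat.card_eq_fintype_card] at h1
    exact h1
  have hsub : S ⊆ nthRootsFinset (Nat.card Kˣ) (1 : AlgebraicClosure K) := by
    intro z hz
    obtain ⟨x, -, rfl⟩ := Finset.mem_image.1 hz
    rw [Polynomial.mem_nthRootsFinset hpos, ← Units.val_pow_eq_pow_val, ← map_pow, pow_card_eq_one', map_one, Units.val_one]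
  have hle : (nthRootsFinset (Nat.card Kˣ) (1 : AlgebraicClosure K)).card ≤ S.card := by
    rw [hS, nthRootsFinset_def]
    exact (Multiset.toFinset_card_le _).trans (Polynomial.card_nthRoots _ _)
  have heq := Finset.eq_of_subset_of_card_le hsub hle
  have hy : (y : AlgebraicClosure K) ∈ S := by
    rw [heq, Polynomial.mem_nthRootsFinset hpos, ← Units.val_pow_eq_pow_val, h, Units.val_one]
  obtain ⟨x, -, hx⟩ := Finset.mem_image.1 hy
  exact ⟨x, Units.ext hx⟩

theorem dOrb_oe (hF : Fintype.card F = q ^ 2) (o : Orb K (-(q : ℤ))) :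
    dOrb (AlgebraicClosure K) (-(q : ℤ)) (oe K (-(q : ℤ)) o) = dOrb K (-(q : ℤ)) o := by
  induction o using Quotient.inductionOn with | _ x => ?_
  rw [dOrb, dOrb]
  let f : {y : Kˣ // (Quotient.mk (orbSetoid K (-(q : ℤ))) y) = Quotient.mk _ x} →
      {y : (AlgebraicClosure K)ˣ // (Quotient.mk (orbSetoid (AlgebraicClosure K) (-(q : ℤ))) y) =
        oe K (-(q : ℤ)) (Quotient.mk _ x)} :=
    fun y => ⟨iu K y.1, (oe_mk _ _).symm.trans (congrArg (oe K (-(q : ℤ))) y.2)⟩
  refine (Nat.card_congr (Equiv.ofBijective f ⟨?_, ?_⟩)).symm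
  · intro y z h
    exact Subtype.ext (iu_injective K (congrArg Subtype.val h))
  · rintro ⟨z, hz⟩
    have h1 : Quotient.mk (orbSetoid (AlgebraicClosure K) (-(q : ℤ))) z = Quotient.mk _ (iu K x) := hz
    rw [← orbEquiv_mk hF, ← orbEquiv_mk hF, (orbEquiv hF).injective.eq_iff] at h1
    obtain ⟨k, hk⟩ := OI.mk_eq_iff.1 h1.symm
    rw [Phi_zpow, ← map_zpow] at hk
    refine ⟨⟨x ^ (-(q : ℤ)) ^ k, (oe K (-(q : ℤ))).injective ?_⟩, Subtype.ext hk⟩
    change oe K _ (Quotient.mk (orbSetoid K (-(q : ℤ))) (x ^ (-(q : ℤ)) ^ k)) = _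
    rw [oe_mk, hk]
    exact hz

theorem mem_range_oe (hF : Fintype.card F = q ^ 2) (hK : ∀ k, 0 < k → k ≤ N → ((-(q : ℤ)) ^ k - 1) ∣ (Nat.card Kˣ : ℤ))
    {o : Orb (AlgebraicClosure K) (-(q : ℤ))} (ho : dOrb (AlgebraicClosure K) (-(q : ℤ)) o ≤ N) :
    o ∈ Set.range (oe K (-(q : ℤ))) := by
  obtain ⟨i, rfl⟩ := (orbEquiv (E := AlgebraicClosure K) hF).surjective o
  rw [dOrb_eq] at ho
  have h1 : (Phi q)^[i.d] i.rep = i.rep := Function.iterate_minimalPeriod
  rw [Phi_zpow] at h1
  have h2 : i.rep ^ ((-(q : ℤ)) ^ i.d - 1) = 1 := by rw [zpow_sub_one, h1, mul_inv_cancel]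
  obtain ⟨c, hc⟩ := hK i.d (dd_pos hF _) ho
  have h3 : i.rep ^ Nat.card Kˣ = 1 := by
    rw [← zpow_natCast, hc, zpow_mul, h2, one_zpow]
  obtain ⟨x, hx⟩ := mem_range_iu h3
  refine ⟨Quotient.mk (orbSetoid K (-(q : ℤ))) x, ?_⟩
  rw [oe_mk, hx, ← orbEquiv_mk hF, i.mk_rep]

end orbits

/-! ### the data -/

section data

variable {F : Type u} [Field F] [Fintype F] {K : Type v} [Field K] [Finite K] [Algebra F K] {q N n m : ℕ}

/-- the class data of `GU_n(q)` over a finite field -/
noncomputable def typeDataK (hF : Fintype.card F = q ^ 2)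
    (hK : ∀ k, 0 < k → k ≤ N → ((-(q : ℤ)) ^ k - 1) ∣ (Nat.card Kˣ : ℤ)) (n : ℕ) (hn : n ≤ N) :
    TypeData (dOrb K (-(q : ℤ))) (-(q : ℤ)) (GU n F q) n :=
  TDcomap (oe K (-(q : ℤ))) (dOrb_oe hF) (typeDataO (AlgebraicClosure K) hF n)
    (fun _ h => mem_range_oe hF hK (h.trans hn))

variable (hF : Fintype.card F = q ^ 2) (hK : ∀ k, 0 < k → k ≤ N → ((-(q : ℤ)) ^ k - 1) ∣ (Nat.card Kˣ : ℤ))

omit [Fintype F] [Finite K] in
theorem mp_iu [Finite F] (y : Kˣ) : mp F (iu K y) = mp F y := by
  rw [mp, mp, iu_val]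
  exact minpoly.algebraMap_eq (algebraMap K (AlgebraicClosure K)).injective _

theorem typeDataK_typ (hn : n ≤ N) (g : GU n F q) (y : Kˣ) :
    (typeDataK hF hK n hn).typ g (Quotient.mk (orbSetoid K (-(q : ℤ))) y) =
      mcol ((g : GL (Fin n) F) : Matrix (Fin n) (Fin n) F) (y : K) := by
  change (typeDataO (AlgebraicClosure K) hF n).typ g (oe K _ _) = _
  rw [oe_mk, typeDataO_typ, mcol_eq, mcol_eq, mp_iu]

/-- all indices of the large type come from `K` -/
theorem typeDataK_emb (hn : n ≤ N) (g : GU n F q) :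
    emb (oe K (-(q : ℤ))) ((typeDataK hF hK n hn).typ g) = (typeDataO (AlgebraicClosure K) hF n).typ g :=
  emb_res _ (mem_range_of_deg _ ((typeDataO (AlgebraicClosure K) hF n).deg g) (fun _ h => mem_range_oe hF hK (h.trans hn)))

theorem tip_typeDataK (hn : n ≤ N) (hm : m ≤ N) (g : GU n F q) (h : GU m F q) :
    tip (dOrb K (-(q : ℤ))) ((typeDataK hF hK n hn).typ g) ((typeDataK hF hK m hm).typ h) =
      tip OI.d (tyF hF (Matrix.toLin' (gmat g)) : Ty (OI (AlgebraicClosure K) hF)) (tyF hF (Matrix.toLin' (gmat h))) := by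
  rw [← tip_emb (oe K (-(q : ℤ))) (dOrb_oe hF), typeDataK_emb, typeDataK_emb]
  exact tip_tmap (orbEquiv hF) (dOrb_eq hF) _ _

/-- the exponent of the Weil kernel -/
theorem finrank_homSp_tyF {E : Type w} [Field E] [Algebra F E] [Algebra.IsAlgebraic F E] [IsAlgClosed E]
    (g : GU n F q) (h : GU m F q) :
    finrank F (H603.Weil.homSp (gmat g) (gmat h)) =
      tip OI.d (tyF hF (Matrix.toLin' (gmat g)) : Ty (OI E hF)) (tyF hF (Matrix.toLin' (gmat h))) := by
  rw [tip_comm, ← finrank_Hm hF (hf_std (q := q) hF m) (gmat_isom hF h) (hf_std (q := q) hF n) (gmat_isom hF g)]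
  refine LinearEquiv.finrank_eq
    { toFun := fun X => ⟨Matrix.toLin' (X : Matrix (Fin n) (Fin m) F), fun y => ?_⟩
      invFun := fun Y => ⟨LinearMap.toMatrix' (Y : (Fin m → F) →ₗ[F] (Fin n → F)), ?_⟩
      map_add' := fun X Y => Subtype.ext (map_add Matrix.toLin' (X : Matrix (Fin n) (Fin m) F) (Y : Matrix (Fin n) (Fin m) F))
      map_smul' := fun c X => Subtype.ext (map_smul Matrix.toLin' c (X : Matrix (Fin n) (Fin m) F))
      left_inv := fun X => Subtype.ext (LinearMap.toMatrix'_toLin' _)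
      right_inv := fun Y => Subtype.ext (Matrix.toLin'_toMatrix' _) }
  · rw [← Matrix.toLin'_mul_apply, ← Matrix.toLin'_mul_apply, H603.Weil.mem_homSp.1 X.2]
  · rw [H603.Weil.mem_homSp]
    have h6 : (Y : (Fin m → F) →ₗ[F] (Fin n → F)) ∘ₗ Matrix.toLin' (gmat h) = Matrix.toLin' (gmat g) ∘ₗ Y :=
      LinearMap.ext Y.2
    have h7 := congrArg LinearMap.toMatrix' h6
    rw [LinearMap.toMatrix'_comp, LinearMap.toMatrix'_comp, LinearMap.toMatrix'_toLin', LinearMap.toMatrix'_toLin'] at h7
    exact h7.symm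

theorem finrank_homSpK (hn : n ≤ N) (hm : m ≤ N) (g : GU n F q) (h : GU m F q) :
    finrank F (H603.Weil.homSp ((g : GL (Fin n) F) : Matrix (Fin n) (Fin n) F) ((h : GL (Fin m) F) : Matrix (Fin m) (Fin m) F)) =
      tip (dOrb K (-(q : ℤ))) ((typeDataK hF hK n hn).typ g) ((typeDataK hF hK m hm).typ h) := by
  rw [tip_typeDataK]
  exact finrank_homSp_tyF hF g h

/-- **The Weil kernel**: the hypothesis `hW` of the theta lift. -/
theorem weilK (hq : q ≠ 0) (n m : ℕ) (hn : n ≤ N) (hm : m ≤ N) :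
    IsCharacter (GU n F q × GU m F q) fun x =>
      (((-(q : ℤ)).sign : ℤ) : ℂ) ^ (n * m) * ((-(q : ℤ) : ℤ) : ℂ) ^
        tip (dOrb K (-(q : ℤ))) ((typeDataK hF hK n hn).typ x.1) ((typeDataK hF hK m hm).typ x.2⁻¹) := by
  have hF' : Nat.card F = q ^ 2 := by rw [Nat.card_eq_fintype_card, hF]
  convert H603.Weil.weil_hom_inv hF' hq n m using 2 with x
  rw [← finrank_homSpK hF hK]
  have hs : (-(q : ℤ)).sign = -1 := by
    rw [Int.sign_neg, Int.sign_natCast_of_ne_zero hq]
  rw [hs]
  push_cast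
  rfl

end data

end Cfsg.Agent.H794.GUT
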