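import Cfsg.Agent.H794.GUT.Main
import Cfsg.Agent.S2580

/-!
# The Weil exponent (S4537, helper794)

* `finrank_Hm` : `dim Hom((V, T), (W, S)) = ∑ d_i ∑_j (typ T i)_j (typ S i)_j` for unitary `T`, `S`;
* `finrank_kron` : `dim ker (g ⊗ h - 1) = tip (typ g) (typ h⁻¹)`.
-/

set_option autoImplicit false

open Module Polynomial

namespace Cfsg.Agent.H794.GUT

open Cfsg Cfsg.Agent.H186 Cfsg.Agent.H152 Cfsg.Agent.H615.GU Cfsg.Agent.H174 Cfsg.Agent.ClassicalGeometry.GUBasic

universe u v w x

section hom

variable {F : Type u} [Field F] {V : Type v} [AddCommGroup V] [Module F V] {W : Type w} [AddCommGroup W] [Module F W]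

/-- the intertwiners -/
def Hm (T : End F V) (S : End F W) : Submodule F (V →ₗ[F] W) where
  carrier := {X | ∀ x, X (T x) = S (X x)}
  add_mem' {X Y} hX hY x := by rw [LinearMap.add_apply, LinearMap.add_apply, hX, hY, map_add]
  zero_mem' x := by rw [LinearMap.zero_apply, LinearMap.zero_apply, map_zero]
  smul_mem' c X hX x := by rw [LinearMap.smul_apply, LinearMap.smul_apply, hX, map_smul]

theorem mem_Hm {T : End F V} {S : End F W} {X : V →ₗ[F] W} : X ∈ Hm T S ↔ ∀ x, X (T x) = S (X x) := Iff.rfl

theorem finrank_Hm_of_cyc [FiniteDimensional F W] {T : End F V} {S : End F W} {ι : Type*} [Fintype ι] {g : ι → F[X]}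
    {v : ι → V} (h : IsCyc T g v) : finrank F (Hm T S) = ∑ k, finrank F (LinearMap.ker (aeval S (g k))) := by
  classical
  have hv : ∀ k, aeval T (g k) (v k) = 0 := by
    intro k
    have h1 := (h.ind (Pi.single k (g k))).2 (fun i => by
      by_cases hi : i = k
      · subst hi; rw [Pi.single_eq_same]
      · rw [Pi.single_eq_of_ne hi]; exact dvd_zero _)
    rw [Finset.sum_eq_single k] at h1
    · rwa [Pi.single_eq_same] at h1
    · intro i _ hi
      rw [Pi.single_eq_of_ne hi, map_zero, LinearMap.zero_apply]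
    · intro h2; exact absurd (Finset.mem_univ _) h2
  let Φ : Hm T S →ₗ[F] (∀ k, LinearMap.ker (aeval S (g k))) :=
    LinearMap.pi fun k => LinearMap.codRestrict _ ((LinearMap.applyₗ (v k)).comp (Hm T S).subtype) (fun X => by
      rw [LinearMap.mem_ker]
      change aeval S (g k) (X.1 (v k)) = 0
      rw [← aeval_intertwine X.1 X.2, hv, map_zero])
  have hΦ : ∀ X k, ((Φ X k : LinearMap.ker (aeval S (g k))) : W) = X.1 (v k) := fun X k => rfl
  have hbij : Function.Bijective Φ := by
    constructor
    · rw [injective_iff_map_eq_zero]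
      intro X hX
      apply Subtype.ext
      refine LinearMap.ext fun m => ?_
      obtain ⟨f, rfl⟩ := h.span m
      change X.1 (∑ i, aeval T (f i) (v i)) = 0
      rw [map_sum]
      refine Finset.sum_eq_zero fun i _ => ?_
      rw [aeval_intertwine X.1 X.2, ← hΦ, hX]
      change aeval S (f i) 0 = 0
      rw [map_zero]
    · intro w
      let B : (ι → F[X]) →ₗ[F] W := evalMap S (fun k => (w k : W))
      have hle : LinearMap.ker (evalMap T v) ≤ LinearMap.ker B := by
        intro f hf
        rw [LinearMap.mem_ker, evalMap_apply, h.ind] at hf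
        rw [LinearMap.mem_ker, evalMap_apply]
        refine Finset.sum_eq_zero fun i _ => ?_
        obtain ⟨c, hc⟩ := hf i
        have hw : aeval S (g i) (w i : W) = 0 := (w i).2
        rw [hc, mul_comm, map_mul, Module.End.mul_apply, hw, map_zero]
      let Y : V →ₗ[F] W := ((LinearMap.ker (evalMap T v)).liftQ B hle).comp
        ((evalMap T v).quotKerEquivOfSurjective h.evalMap_surjective).symm.toLinearMap
      have hY : ∀ f, Y (evalMap T v f) = B f := by
        intro f
        change (LinearMap.ker (evalMap T v)).liftQ B hle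
          (((evalMap T v).quotKerEquivOfSurjective h.evalMap_surjective).symm (evalMap T v f)) = _
        have h1 : ((evalMap T v).quotKerEquivOfSurjective h.evalMap_surjective).symm (evalMap T v f) =
            Submodule.Quotient.mk f := by
          rw [LinearEquiv.symm_apply_eq]
          rfl
        rw [h1]
        rfl
      have hYT : ∀ x, Y (T x) = S (Y x) := by
        intro x
        obtain ⟨f, rfl⟩ := h.evalMap_surjective x
        have h1 : T (evalMap T v f) = evalMap T v (fun i => X * f i) := by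
          rw [evalMap_apply, evalMap_apply, map_sum]
          exact Finset.sum_congr rfl fun i _ => by rw [map_mul, aeval_X, Module.End.mul_apply]
        rw [h1, hY, hY]
        change evalMap S _ _ = S (evalMap S _ _)
        rw [evalMap_apply, evalMap_apply, map_sum]
        exact Finset.sum_congr rfl fun i _ => by rw [map_mul, aeval_X, Module.End.mul_apply]
      refine ⟨⟨Y, hYT⟩, ?_⟩
      funext k
      apply Subtype.ext
      rw [hΦ]
      change Y (v k) = _
      have h2 : v k = evalMap T v (Pi.single k 1) := by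
        rw [evalMap_apply, Finset.sum_eq_single k]
        · rw [Pi.single_eq_same, map_one, Module.End.one_apply]
        · intro i _ hi
          rw [Pi.single_eq_of_ne hi, map_zero, LinearMap.zero_apply]
        · intro h2; exact absurd (Finset.mem_univ _) h2
      rw [h2, hY]
      change evalMap S _ _ = _
      rw [evalMap_apply, Finset.sum_eq_single k]
      · rw [Pi.single_eq_same, map_one, Module.End.one_apply]
      · intro i _ hi
        rw [Pi.single_eq_of_ne hi, map_zero, LinearMap.zero_apply]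
      · intro h2; exact absurd (Finset.mem_univ _) h2
  rw [(LinearEquiv.ofBijective Φ hbij).finrank_eq, Module.finrank_pi_fintype]

theorem finrank_Hm_congr {V' : Type x} [AddCommGroup V'] [Module F V'] {T : End F V} {T' : End F V'} {S : End F W}
    (E : V ≃ₗ[F] V') (hE : ∀ y, E (T y) = T' (E y)) : finrank F (Hm T S) = finrank F (Hm T' S) := by
  have hE' : ∀ y, E.symm (T' y) = T (E.symm y) := fun y => by
    rw [LinearEquiv.symm_apply_eq, hE, LinearEquiv.apply_symm_apply]
  refine LinearEquiv.finrank_eq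
    { toFun := fun X => ⟨X.1.comp E.symm.toLinearMap, fun y => ?_⟩
      invFun := fun X => ⟨X.1.comp E.toLinearMap, fun y => ?_⟩
      map_add' := fun _ _ => rfl
      map_smul' := fun _ _ => rfl
      left_inv := fun X => ?_
      right_inv := fun X => ?_ }
  · change X.1 (E.symm (T' y)) = S (X.1 (E.symm y))
    rw [hE', X.2]
  · change X.1 (E (T y)) = S (X.1 (E y))
    rw [hE, X.2]
  · apply Subtype.ext
    refine LinearMap.ext fun y => ?_
    change X.1 (E.symm (E y)) = _
    rw [E.symm_apply_apply]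
  · apply Subtype.ext
    refine LinearMap.ext fun y => ?_
    change X.1 (E (E.symm y)) = _
    rw [E.apply_symm_apply]

end hom

/-! ### the exponent of the Weil kernel -/

theorem ip_eq (l m : Col) {B : ℕ} (hB : ∀ j, B ≤ j → l j = 0) : l.ip m = ∑ j ∈ Finset.range B, l j * m j := by
  refine Finset.sum_subset (s₁ := l.1.support) ?_ ?_
  · intro i hi
    rw [Finset.mem_range]
    by_contra hcon
    exact (Finsupp.mem_support_iff.1 hi) (hB i (not_lt.1 hcon))
  · intro i _ hi
    have h0 : l i = 0 := Finsupp.notMem_support_iff.1 hi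
    change l i * m i = 0
    rw [h0, zero_mul]

theorem ip_comm (l m : Col) : l.ip m = m.ip l := by
  rw [ip_eq l m (B := max l.size m.size) (fun j hj => Col.apply_of_size_le ((le_max_left _ _).trans hj)),
    ip_eq m l (B := max l.size m.size) (fun j hj => Col.apply_of_size_le ((le_max_right _ _).trans hj))]
  exact Finset.sum_congr rfl fun j _ => mul_comm _ _

theorem ip_zero_right (l : Col) : l.ip 0 = 0 := by
  rw [ip_comm]
  rfl

theorem tip_eq {I : Type*} [DecidableEq I] (d : I → ℕ) (lam mu : Ty I) :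
    tip d lam mu = ∑ i ∈ lam.support ∪ mu.support, d i * (lam i).ip (mu i) := by
  refine Finset.sum_subset Finset.subset_union_left ?_
  intro i _ hi
  have h0 : lam i = 0 := Finsupp.notMem_support_iff.1 hi
  change d i * (lam i).ip (mu i) = 0
  rw [h0, ip_comm, ip_zero_right, mul_zero]

theorem tip_comm {I : Type*} (d : I → ℕ) (lam mu : Ty I) : tip d lam mu = tip d mu lam := by
  classical
  rw [tip_eq, tip_eq, Finset.union_comm]
  exact Finset.sum_congr rfl fun i _ => by rw [ip_comm]

section dims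

variable {F : Type u} [Field F] [Fintype F] {E : Type v} [Field E] [Algebra F E] [Algebra.IsAlgebraic F E]
  [IsAlgClosed E] {q : ℕ} {V : Type w} [AddCommGroup V] [Module F V] [FiniteDimensional F V]
  {W : Type x} [AddCommGroup W] [Module F W] [FiniteDimensional F W]

/-- the dimension of the space of intertwiners of two unitary operators -/
theorem finrank_Hm (hF : Fintype.card F = q ^ 2) {h : V → V → F} (hh : HF q h) {T : End F V}
    (hT : ∀ x y, h (T x) (T y) = h x y) {h' : W → W → F} (hh' : HF q h') {S : End F W}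
    (hS : ∀ x y, h' (S x) (S y) = h' x y) :
    finrank F (Hm T S) = tip OI.d (tyF hF T : Ty (OI E hF)) (tyF hF S) := by
  classical
  obtain ⟨D, p, e, v, hd⟩ := exists_dec T
  have hp0 : ∀ k, (p k).coeff 0 ≠ 0 := fun k => IsDec.coeff_zero_ne hd (isom_injective hh hT) k
  choose r hr using fun k => exists_root (E := E) (hd.monic k) (hd.irr k) (hp0 k)
  have hfin : ∀ x : Eˣ, {y : Eˣ | mp F y = mp F x}.Finite := fun x =>
    Set.finite_of_ncard_pos (by rw [ncard_mp]; exact (mp_irr x).natDegree_pos)
  have hSfin : {y : Eˣ | ∃ k, mp F y = p k}.Finite := by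
    have : {y : Eˣ | ∃ k, mp F y = p k} = ⋃ k, {y : Eˣ | mp F y = mp F (r k)} := by
      ext y
      simp only [Set.mem_iUnion]
      exact ⟨fun ⟨k, hk⟩ => ⟨k, by change _ = _; rw [hr]; exact hk⟩,
        fun ⟨k, hk⟩ => ⟨k, by have h1 : mp F y = _ := hk; rw [hr] at h1; exact h1⟩⟩
    rw [this]
    exact Set.finite_iUnion fun k => hfin _
  let P : Finset Eˣ := hSfin.toFinset
  have hP : ∀ y, y ∈ P ↔ ∃ k, mp F y = p k := fun y => hSfin.mem_toFinset
  let A : Fin D → ℕ := fun k => ∑ j ∈ Finset.range (e k), cf S (p k) j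
  have hip : ∀ y : Eˣ, (tyF hF T (OI.mk hF y)).ip (tyF hF S (OI.mk hF y)) = ∑ k, if p k = mp F y then A k else 0 := by
    intro y
    rw [tyF_mk hF hh hT, tyF_mk hF hh' hS, ip_eq _ _ (B := finrank F V) (fun j hj => by
      rw [col_apply T (mp_monic y) (mp_irr y), cf_eq_zero T (mp_monic y) (mp_irr y) hj])]
    simp_rw [col_apply T (mp_monic y) (mp_irr y), col_apply S (mp_monic y) (mp_irr y),
      cf_of_dec hd (mp_monic y) (mp_irr y), Finset.card_filter, Finset.sum_mul]
    rw [Finset.sum_comm]
    refine Finset.sum_congr rfl fun k _ => ?_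
    by_cases hk : p k = mp F y
    · simp only [hk, if_true, true_and, A]
      have h1 : Finset.range (e k) = (Finset.range (finrank F V)).filter fun j => j < e k := by
        ext j
        rw [Finset.mem_filter, Finset.mem_range, Finset.mem_range]
        have := hd.e_le k
        omega
      rw [h1, Finset.sum_filter]
      refine Finset.sum_congr rfl fun j _ => ?_
      split_ifs <;> simp
    · simp [hk]
  have hne : ∀ y : Eˣ, tyF hF T (OI.mk hF y) ≠ 0 → y ∈ P := by
    intro y hy
    rw [hP]
    by_contra hcon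
    push Not at hcon
    apply hy
    rw [tyF_mk hF hh hT]
    ext j
    rw [col_apply T (mp_monic y) (mp_irr y), cf_of_dec hd (mp_monic y) (mp_irr y), Col.zero_apply,
      Finset.card_eq_zero, Finset.filter_false_of_mem]
    rintro k - ⟨hk, -⟩
    exact hcon k hk.symm
  have hne' : ∀ y ∈ P, tyF hF T (OI.mk hF y) ≠ 0 := by
    intro y hy h0
    obtain ⟨k, hk⟩ := (hP y).1 hy
    have h1 := size_col_of_dec hd (mp_monic y) (mp_irr y)
    rw [← tyF_mk hF hh hT, h0, Col.size_zero] at h1
    have h2 := (Finset.sum_eq_zero_iff.1 h1.symm) k (Finset.mem_univ k)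
    rw [if_pos hk.symm] at h2
    exact (hd.pos k).ne' h2
  have hA : ∑ y ∈ P, (tyF hF T (OI.mk hF y)).ip (tyF hF S (OI.mk hF y)) = finrank F (Hm T S) := by
    simp_rw [hip]
    rw [Finset.sum_comm, finrank_Hm_of_cyc hd.cyc]
    refine Finset.sum_congr rfl fun k _ => ?_
    change _ = kd S (p k) (e k)
    rw [← Finset.sum_filter, Finset.sum_const, smul_eq_mul, kd_eq S (hd.monic k) (hd.irr k)]
    congr 1
    have h1 := ncard_mp (F := F) (r k)
    rw [hr] at h1
    rw [← h1, ← Set.ncard_coe_finset]
    congr 1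
    ext y
    rw [Finset.coe_filter]
    exact ⟨fun h => h.2.symm, fun h => ⟨(hP y).2 ⟨k, h⟩, Eq.symm h⟩⟩
  rw [← hA, tip, Finsupp.sum, ← Finset.sum_fiberwise_of_maps_to (s := P) (t := (tyF hF T : Ty (OI E hF)).support)
    (g := fun y => OI.mk hF y) (fun y hy => Finsupp.mem_support_iff.2 (hne' y hy))]
  refine Finset.sum_congr rfl fun i hi => ?_
  rw [Finset.sum_congr rfl (fun y hy => by rw [(Finset.mem_filter.1 hy).2]), Finset.sum_const, smul_eq_mul]
  congr 1
  have h1 := OI.ncard_eq hF i.rep
  rw [i.mk_rep] at h1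
  rw [OI.d, ← h1, ← Set.ncard_coe_finset]
  congr 1
  ext y
  rw [Finset.coe_filter]
  refine ⟨fun h => h.2, fun h => ⟨hne y ?_, h⟩⟩
  have h2 : OI.mk hF y = i := h
  rw [h2]
  exact Finsupp.mem_support_iff.1 hi

end dims

/-! ### the Kronecker product -/

section kron

variable {F : Type u} [Field F] [Fintype F] {E : Type v} [Field E] [Algebra F E] [Algebra.IsAlgebraic F E]
  [IsAlgClosed E] {q n m : ℕ}

open scoped Kronecker

omit [Fintype F] in
theorem kron_mulVec (A : Matrix (Fin n) (Fin n) F) (B : Matrix (Fin m) (Fin m) F) (X : Matrix (Fin n) (Fin m) F)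
    (i : Fin n) (j : Fin m) :
    ((A ⊗ₖ B).mulVec (fun p => X p.1 p.2)) (i, j) = (A * X * B.transpose) i j := by
  simp only [Matrix.mulVec, dotProduct, Matrix.kroneckerMap_apply, Matrix.mul_apply, Matrix.transpose_apply,
    Fintype.sum_prod_type, Finset.sum_mul]
  rw [Finset.sum_comm]
  exact Finset.sum_congr rfl fun k _ => Finset.sum_congr rfl fun l _ => by ring

/-- the exponent of the Weil kernel -/
theorem finrank_kron (hF : Fintype.card F = q ^ 2) (g : GU n F q) (h : GU m F q) :
    finrank F (LinearMap.ker (Matrix.toLin' (gmat g ⊗ₖ gmat h) - 1)) =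
      tip OI.d (tyF hF (Matrix.toLin' (gmat g)) : Ty (OI E hF)) (tyF hF (Matrix.toLin' (gmat h⁻¹))) := by
  classical
  have h1 : gmat h * gmat h⁻¹ = 1 := by
    change gmat (h * h⁻¹) = 1
    rw [mul_inv_cancel]
    rfl
  have h1t : (gmat h⁻¹).transpose * (gmat h).transpose = 1 := by rw [← Matrix.transpose_mul, h1, Matrix.transpose_one]
  have h2t : (gmat h).transpose * (gmat h⁻¹).transpose = 1 := mul_eq_one_comm.1 h1t
  -- the transpose is similar
  obtain ⟨c, hc⟩ := S2580.result (gmat h⁻¹)
  let φ : (Fin m → F) ≃ₗ[F] (Fin m → F) := Matrix.toLin'OfInv (M := ((c⁻¹ : (Matrix (Fin m) (Fin m) F)ˣ) : Matrix _ _ F))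
    (M' := (c : Matrix (Fin m) (Fin m) F)) (by simp) (by simp)
  have hφ : ∀ x, φ (Matrix.toLin' (gmat h⁻¹) x) = Matrix.toLin' (gmat h⁻¹).transpose (φ x) := by
    intro x
    change Matrix.toLin' (c : Matrix (Fin m) (Fin m) F) (Matrix.toLin' (gmat h⁻¹) x) =
      Matrix.toLin' (gmat h⁻¹).transpose (Matrix.toLin' (c : Matrix (Fin m) (Fin m) F) x)
    rw [← Matrix.toLin'_mul_apply, ← Matrix.toLin'_mul_apply]
    have h3 : (c : Matrix (Fin m) (Fin m) F) * gmat h⁻¹ = (gmat h⁻¹).transpose * c := hc
    rw [h3]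
  rw [tip_comm, ← finrank_Hm hF (hf_std (q := q) hF m) (gmat_isom hF h⁻¹) (hf_std (q := q) hF n) (gmat_isom hF g),
    finrank_Hm_congr φ hφ]
  have p1 : ∀ X : LinearMap.ker (Matrix.toLin' (gmat g ⊗ₖ gmat h) - 1), Matrix.toLin' (Matrix.of fun (i : Fin n) (j : Fin m) => (X.1 : Fin n × Fin m → F) (i, j)) ∈
      Hm (Matrix.toLin' (gmat h⁻¹).transpose) (Matrix.toLin' (gmat g)) := by
    intro X y
    rw [← Matrix.toLin'_mul_apply, ← Matrix.toLin'_mul_apply]
    have h3 := X.2
    rw [LinearMap.mem_ker, LinearMap.sub_apply, sub_eq_zero, Matrix.toLin'_apply] at h3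
    obtain ⟨Z, hZ⟩ : ∃ Z : Matrix (Fin n) (Fin m) F, Z = Matrix.of fun (i : Fin n) (j : Fin m) => (X.1 : Fin n × Fin m → F) (i, j) := ⟨_, rfl⟩
    have h4 : gmat g * Z * (gmat h).transpose = Z := by
      rw [hZ]
      ext i j
      have h9 := kron_mulVec (gmat g) (gmat h) (Matrix.of fun (i : Fin n) (j : Fin m) => (X.1 : Fin n × Fin m → F) (i, j)) i j
      exact h9.symm.trans (congrFun h3 (i, j))
    rw [← hZ]
    have h10 : Z * (gmat h⁻¹).transpose = gmat g * Z := by
      calc Z * (gmat h⁻¹).transpose = gmat g * Z * (gmat h).transpose * (gmat h⁻¹).transpose := by rw [h4]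
        _ = gmat g * Z * ((gmat h).transpose * (gmat h⁻¹).transpose) := Matrix.mul_assoc _ _ _
        _ = gmat g * Z := by rw [h2t, Matrix.mul_one]
    rw [h10]
  have p2 : ∀ Y : Hm (Matrix.toLin' (gmat h⁻¹).transpose) (Matrix.toLin' (gmat g)),
      (fun p : Fin n × Fin m => LinearMap.toMatrix' Y.1 p.1 p.2) ∈
        LinearMap.ker (Matrix.toLin' (gmat g ⊗ₖ gmat h) - 1) := by
    intro Y
    rw [LinearMap.mem_ker, LinearMap.sub_apply, sub_eq_zero, Matrix.toLin'_apply]
    have h5 : LinearMap.toMatrix' Y.1 * (gmat h⁻¹).transpose = gmat g * LinearMap.toMatrix' Y.1 := by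
      have h6 : Y.1 ∘ₗ Matrix.toLin' (gmat h⁻¹).transpose = Matrix.toLin' (gmat g) ∘ₗ Y.1 := LinearMap.ext Y.2
      have h7 := congrArg LinearMap.toMatrix' h6
      rwa [LinearMap.toMatrix'_comp, LinearMap.toMatrix'_comp, LinearMap.toMatrix'_toLin', LinearMap.toMatrix'_toLin'] at h7
    funext p
    obtain ⟨i, j⟩ := p
    rw [kron_mulVec, ← h5, Matrix.mul_assoc, h1t, Matrix.mul_one]
    rfl
  let Ξ : LinearMap.ker (Matrix.toLin' (gmat g ⊗ₖ gmat h) - 1) ≃ₗ[F]
      Hm (Matrix.toLin' (gmat h⁻¹).transpose) (Matrix.toLin' (gmat g)) :=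
    { toFun := fun X => ⟨Matrix.toLin' (Matrix.of fun (i : Fin n) (j : Fin m) => (X.1 : Fin n × Fin m → F) (i, j)), p1 X⟩
      invFun := fun Y => ⟨fun p => LinearMap.toMatrix' Y.1 p.1 p.2, p2 Y⟩
      map_add' := fun X Y => Subtype.ext
        (map_add Matrix.toLin' (Matrix.of fun (i : Fin n) (j : Fin m) => (X.1 : Fin n × Fin m → F) (i, j)) (Matrix.of fun (i : Fin n) (j : Fin m) => (Y.1 : Fin n × Fin m → F) (i, j)))
      map_smul' := fun a X => Subtype.ext (map_smul Matrix.toLin' a (Matrix.of fun (i : Fin n) (j : Fin m) => (X.1 : Fin n × Fin m → F) (i, j)))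
      left_inv := fun X => by
        apply Subtype.ext
        funext p
        change LinearMap.toMatrix' (Matrix.toLin' _) p.1 p.2 = _
        rw [LinearMap.toMatrix'_toLin']
        rfl
      right_inv := fun Y => by
        apply Subtype.ext
        change Matrix.toLin' (Matrix.of fun i j => LinearMap.toMatrix' Y.1 i j) = _
        have h8 : (Matrix.of fun i j => LinearMap.toMatrix' Y.1 i j) = LinearMap.toMatrix' Y.1 := rfl
        rw [h8, Matrix.toLin'_toMatrix'] }
  exact Ξ.finrank_eq

end kron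

end Cfsg.Agent.H794.GUT
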