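import Cfsg.Agent.H794.GUT.Hom
import Cfsg.Agent.H615.GU.ColOf

/-!
# The class data of `GU_n(q)` in the frame `Orb K Q`, `mcol` of the hub S4537 (helper794)

* `mcol_eq` : `mcol A x = col (toLin' A) (minpoly x)`;
* `typeDataO hF n : TypeData (dOrb E (-q)) (-q) (GU n F q) n`, `typeDataO_typ : typ g [x] = mcol g x`;
* `finrank_kronO` : `dim ker (g ⊗ h - 1) = tip (typ g) (typ h⁻¹)`.
-/

set_option autoImplicit false

open Module Polynomial

namespace Cfsg.Agent.H794.GUT

open Cfsg Cfsg.Agent.H186 Cfsg.Agent.H152 Cfsg.Agent.H615.GU Cfsg.Agent.H174 Cfsg.Agent.ClassicalGeometry.GUBasic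

universe u v w x

/-! ### scalar extension -/

section bc

variable {F : Type u} [Field F] {E : Type v} [Field E] [Algebra F E] {n : ℕ}

/-- the coordinatewise extension -/
def ex (E : Type v) [Field E] [Algebra F E] (w : Fin n → F) : Fin n → E := fun i => algebraMap F E (w i)

theorem ex_add (w w' : Fin n → F) : ex E (w + w') = ex E w + ex E w' := by
  funext i
  exact map_add _ _ _

theorem ex_smul (a : F) (w : Fin n → F) : ex E (a • w) = algebraMap F E a • ex E w := by
  funext i
  exact map_mul _ _ _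

theorem ex_zero : ex E (0 : Fin n → F) = 0 := by
  funext i
  exact map_zero _

theorem ex_sum {ι : Type*} (s : Finset ι) (w : ι → Fin n → F) : ex E (∑ k ∈ s, w k) = ∑ k ∈ s, ex E (w k) := by
  classical
  induction s using Finset.induction_on with
  | empty => rw [Finset.sum_empty, Finset.sum_empty, ex_zero]
  | insert a s ha ih => rw [Finset.sum_insert ha, Finset.sum_insert ha, ex_add, ih]

theorem toLin_ex (A : Matrix (Fin n) (Fin n) F) (w : Fin n → F) :
    Matrix.toLin' (A.map (algebraMap F E)) (ex E w) = ex E (Matrix.toLin' A w) := by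
  funext i
  rw [Matrix.toLin'_apply, Matrix.toLin'_apply]
  simp only [Matrix.mulVec, dotProduct, ex, Matrix.map_apply, map_sum, map_mul]

theorem pow_ex (A : Matrix (Fin n) (Fin n) F) (k : ℕ) (w : Fin n → F) :
    (Matrix.toLin' (A.map (algebraMap F E)) ^ k) (ex E w) = ex E ((Matrix.toLin' A ^ k) w) := by
  induction k generalizing w with
  | zero => rfl
  | succ k ih => rw [pow_succ, pow_succ, Module.End.mul_apply, Module.End.mul_apply, toLin_ex, ih]

theorem aeval_ex (A : Matrix (Fin n) (Fin n) F) (f : F[X]) (w : Fin n → F) :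
    aeval (Matrix.toLin' (A.map (algebraMap F E))) (f.map (algebraMap F E)) (ex E w) =
      ex E (aeval (Matrix.toLin' A) f w) := by
  induction f using Polynomial.induction_on' with
  | add f g hf hg =>
    rw [Polynomial.map_add, map_add, map_add, LinearMap.add_apply, LinearMap.add_apply, hf, hg, ex_add]
  | monomial k a =>
    rw [Polynomial.map_monomial, aeval_monomial, aeval_monomial, Module.End.mul_apply, Module.End.mul_apply,
      Module.algebraMap_end_apply, Module.algebraMap_end_apply, pow_ex, ex_smul]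

theorem cyc_bc {A : Matrix (Fin n) (Fin n) F} {ι : Type*} [Fintype ι] {g : ι → F[X]} {v : ι → Fin n → F}
    (h : IsCyc (Matrix.toLin' A) g v) (hg : ∀ i, g i ≠ 0) :
    IsCyc (Matrix.toLin' (A.map (algebraMap F E))) (fun i => (g i).map (algebraMap F E)) (fun i => ex E (v i)) := by
  classical
  set T := Matrix.toLin' (A.map (algebraMap F E)) with hT
  have hspan : ∀ m : Fin n → E, ∃ f : ι → E[X], m = ∑ i, aeval T (f i) (ex E (v i)) := by
    intro m
    choose f hf using fun a : Fin n => h.span (Pi.single a 1)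
    refine ⟨fun k => ∑ a, C (m a) * (f a k).map (algebraMap F E), ?_⟩
    have h1 : m = ∑ a, m a • ex E (Pi.single a (1 : F) : Fin n → F) := by
      funext i
      rw [Finset.sum_apply, Finset.sum_eq_single i]
      · rw [Pi.smul_apply, ex, Pi.single_eq_same, map_one, smul_eq_mul, mul_one]
      · intro j _ hj
        rw [Pi.smul_apply, ex, Pi.single_eq_of_ne (Ne.symm hj), map_zero, smul_zero]
      · intro h2; exact absurd (Finset.mem_univ _) h2
    have h2 : ∀ a, ex E (Pi.single a (1 : F) : Fin n → F) = ∑ k, aeval T ((f a k).map (algebraMap F E)) (ex E (v k)) := by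
      intro a
      conv_lhs => rw [hf a]
      rw [ex_sum]
      exact Finset.sum_congr rfl fun k _ => (aeval_ex A _ _).symm
    conv_lhs => rw [h1]
    simp_rw [h2, Finset.smul_sum]
    rw [Finset.sum_comm]
    refine Finset.sum_congr rfl fun k _ => ?_
    rw [map_sum, LinearMap.sum_apply]
    refine Finset.sum_congr rfl fun a _ => ?_
    rw [map_mul, aeval_C, Module.End.mul_apply, Module.algebraMap_end_apply]
  have hker : ∀ k, aeval T ((g k).map (algebraMap F E)) (ex E (v k)) = 0 := by
    intro k
    rw [hT, aeval_ex]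
    have h1 := (h.ind (Pi.single k (g k))).2 (fun i => by
      by_cases hi : i = k
      · subst hi; rw [Pi.single_eq_same]
      · rw [Pi.single_eq_of_ne hi]; exact dvd_zero _)
    rw [Finset.sum_eq_single k] at h1
    · rw [Pi.single_eq_same] at h1
      rw [h1, ex_zero]
    · intro i _ hi
      rw [Pi.single_eq_of_ne hi, map_zero, LinearMap.zero_apply]
    · intro h2; exact absurd (Finset.mem_univ _) h2
  have hge : ∀ i, (g i).map (algebraMap F E) ≠ 0 := fun i => Polynomial.map_ne_zero (hg i)
  have hfin : ∀ i, Module.Finite E (AdjoinRoot ((g i).map (algebraMap F E))) := fun i =>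
    (AdjoinRoot.powerBasis (hge i)).finite
  let B : (ι → E[X]) →ₗ[E] (Fin n → E) := evalMap T (fun i => ex E (v i))
  let R : (ι → E[X]) →ₗ[E] (∀ i, AdjoinRoot ((g i).map (algebraMap F E))) := redMap (fun i => (g i).map (algebraMap F E))
  have hle : LinearMap.ker R ≤ LinearMap.ker B := by
    intro f hf
    rw [LinearMap.mem_ker] at hf ⊢
    change evalMap T _ f = 0
    rw [evalMap_apply]
    refine Finset.sum_eq_zero fun i _ => ?_
    have h1 := congrFun hf i
    change AdjoinRoot.mk _ (f i) = 0 at h1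
    rw [AdjoinRoot.mk_eq_zero] at h1
    obtain ⟨c, hc⟩ := h1
    rw [hc, mul_comm, map_mul, Module.End.mul_apply, hker, map_zero]
  let Θ : (∀ i, AdjoinRoot ((g i).map (algebraMap F E))) →ₗ[E] (Fin n → E) :=
    ((LinearMap.ker R).liftQ B hle).comp (R.quotKerEquivOfSurjective (redMap_surjective _)).symm.toLinearMap
  have hΘ : ∀ f, Θ (R f) = B f := by
    intro f
    have h1 : (R.quotKerEquivOfSurjective (redMap_surjective _)).symm (R f) = Submodule.Quotient.mk f := by
      rw [LinearEquiv.symm_apply_eq]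
      rfl
    change (LinearMap.ker R).liftQ B hle ((R.quotKerEquivOfSurjective (redMap_surjective _)).symm (R f)) = _
    rw [h1]
    rfl
  have hsurj : Function.Surjective Θ := by
    intro m
    obtain ⟨f, hf⟩ := hspan m
    refine ⟨R f, ?_⟩
    rw [hΘ, hf]
    exact evalMap_apply _ _ _
  have hrank : finrank E (∀ i, AdjoinRoot ((g i).map (algebraMap F E))) = finrank E (Fin n → E) := by
    rw [Module.finrank_pi_fintype, finrank_fintype_fun_eq_card, Fintype.card_fin]
    have h1 := h.finrank_eq hg
    rw [finrank_fintype_fun_eq_card, Fintype.card_fin] at h1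
    rw [h1]
    refine Finset.sum_congr rfl fun i _ => ?_
    rw [(AdjoinRoot.powerBasis (hge i)).finrank, AdjoinRoot.powerBasis_dim, natDegree_map]
  have hinj : Function.Injective Θ := (LinearMap.injective_iff_surjective_of_finrank_eq_finrank hrank).2 hsurj
  refine ⟨hspan, fun f => ⟨fun h0 i => ?_, fun h0 => ?_⟩⟩
  · have h1 : Θ (R f) = 0 := by
      rw [hΘ]
      exact (evalMap_apply _ _ _).trans h0
    have h2 : R f = 0 := hinj (h1.trans (map_zero Θ).symm)
    have h3 := congrFun h2 i
    change AdjoinRoot.mk _ (f i) = 0 at h3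
    rwa [AdjoinRoot.mk_eq_zero] at h3
  · refine Finset.sum_eq_zero fun i _ => ?_
    obtain ⟨c, hc⟩ := h0 i
    rw [hc, mul_comm, map_mul, Module.End.mul_apply, hker, map_zero]

end bc

section mcol

variable {F : Type u} [Field F] [Finite F] {E : Type v} [Field E] [Algebra F E] [Algebra.IsAlgebraic F E] {n : ℕ}

theorem exists_factor (y : Eˣ) : ∃ r : E[X], (mp F y).map (algebraMap F E) = (X - C (y : E)) * r ∧ r.eval (y : E) ≠ 0 := by
  have h0 : ((mp F y).map (algebraMap F E)).eval (y : E) = 0 := by
    rw [eval_map_algebraMap]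
    exact mp_aeval y
  obtain ⟨r, hr⟩ := dvd_iff_isRoot.2 h0
  refine ⟨r, hr, fun h3 => ?_⟩
  have hsep : (mp F y).Separable := Algebra.IsSeparable.isSeparable F (y : E)
  have h1 := hsep.map (f := algebraMap F E)
  have h2 := congrArg derivative hr
  have h4 : (derivative ((mp F y).map (algebraMap F E))).eval (y : E) = 0 := by
    rw [h2, derivative_mul, eval_add, eval_mul, eval_mul, h3, mul_zero, eval_sub, eval_X, eval_C, sub_self, zero_mul,
      add_zero]
  refine h1.aeval_derivative_ne_zero (x := (y : E)) ?_ ?_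
  · rw [coe_aeval_eq_eval]; exact h0
  · rw [coe_aeval_eq_eval]; exact h4

omit [Finite F] [Algebra.IsAlgebraic F E] in
theorem coprime_of_eval {y : E} {r : E[X]} (hr : r.eval y ≠ 0) (a b : ℕ) : IsCoprime ((X - C y) ^ a) (r ^ b) := by
  refine IsCoprime.pow ?_
  rw [(irreducible_X_sub_C y).coprime_iff_not_dvd, dvd_iff_isRoot]
  exact hr

/-- the kernels of the powers of `A - y` -/
theorem finrank_ker_eigen (A : Matrix (Fin n) (Fin n) F) (y : Eˣ) (j : ℕ) :
    finrank E (LinearMap.ker ((Matrix.toLin' (A.map (algebraMap F E) - Matrix.scalar (Fin n) (y : E))) ^ j)) =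
      ∑ i ∈ Finset.range j, cf (Matrix.toLin' A) (mp F y) i := by
  classical
  obtain ⟨D, p, e, v, hd⟩ := exists_dec (Matrix.toLin' A)
  have hcyc := cyc_bc (E := E) hd.cyc (fun i => pow_ne_zero _ (hd.irr i).ne_zero)
  have h1 : (Matrix.toLin' (A.map (algebraMap F E) - Matrix.scalar (Fin n) (y : E))) ^ j =
      aeval (Matrix.toLin' (A.map (algebraMap F E))) ((X - C (y : E)) ^ j) := by
    have h2 : Matrix.toLin' (Matrix.scalar (Fin n) (y : E)) = algebraMap E (Module.End E (Fin n → E)) (y : E) := by
      refine LinearMap.ext fun w => ?_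
      funext i
      rw [Matrix.toLin'_apply, Matrix.scalar_apply, Matrix.mulVec_diagonal, Module.algebraMap_end_apply, Pi.smul_apply,
        smul_eq_mul]
    rw [map_pow, map_sub (aeval _), aeval_X, aeval_C, ← h2, ← map_sub]
  have hne : ∀ i, (p i ^ e i).map (algebraMap F E) ≠ 0 := fun i =>
    Polynomial.map_ne_zero (pow_ne_zero _ (hd.irr i).ne_zero)
  rw [h1, hcyc.finrank_ker hne]
  simp_rw [cf_of_dec hd (mp_monic y) (mp_irr y), Finset.card_filter]
  rw [Finset.sum_comm]
  refine Finset.sum_congr rfl fun k _ => ?_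
  by_cases hk : p k = mp F y
  · have h5 : ∀ i, (if p k = mp F y ∧ i < e k then 1 else 0) = if i < e k then 1 else 0 := fun i => by
      simp only [hk, true_and]
    simp only [h5]
    rw [← min_eq_sum]
    obtain ⟨r, hr, hr0⟩ := exists_factor (F := F) y
    have h2 : (mp F y ^ e k).map (algebraMap F E) = (X - C (y : E)) ^ e k * r ^ e k := by
      rw [Polynomial.map_pow, hr, mul_pow]
    have h3 : ((X - C (y : E)) ^ min j (e k)).natDegree = min j (e k) := by
      rw [natDegree_pow, natDegree_X_sub_C, mul_one]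
    rw [← hk] at h2
    rw [finrank_ker_mulLeft (hne k) _ ((X - C (y : E)) ^ min j (e k)), h3]
    rw [h2]
    apply le_antisymm
    · rw [Ideal.span_singleton_le_iff_mem, Ideal.mem_span_pair]
      rcases le_total j (e k) with hj | hj
      · rw [min_eq_left hj]
        exact ⟨1, 0, by ring⟩
      · rw [min_eq_right hj]
        obtain ⟨a, b, hab⟩ := coprime_of_eval hr0 (j - e k) (e k)
        refine ⟨a, b, ?_⟩
        have h5 : (X - C (y : E)) ^ j = (X - C (y : E)) ^ e k * (X - C (y : E)) ^ (j - e k) := by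
          rw [← pow_add, Nat.add_sub_cancel' hj]
        rw [h5]
        linear_combination ((X - C (y : E)) ^ e k) * hab
    · rw [Ideal.span_le]
      rintro z (rfl | rfl)
      · exact Ideal.mem_span_singleton.mpr (pow_dvd_pow _ (min_le_left _ _))
      · exact Ideal.mem_span_singleton.mpr (Dvd.dvd.mul_right (pow_dvd_pow _ (min_le_right _ _)) _)
  · simp only [hk, false_and, if_false, Finset.sum_const_zero]
    have h2 : (p k).aeval (y : E) ≠ 0 := fun h3 => hk (mp_eq_of_root (hd.monic k) (hd.irr k) h3).symm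
    have h3 : ((p k).map (algebraMap F E)).eval (y : E) ≠ 0 := by rwa [eval_map_algebraMap]
    rw [finrank_ker_mulLeft (hne k) _ 1, natDegree_one]
    rw [Ideal.span_singleton_one, Polynomial.map_pow]
    obtain ⟨a, b, hab⟩ := coprime_of_eval h3 j (e k)
    symm
    rw [Ideal.eq_top_iff_one, Ideal.mem_span_pair]
    exact ⟨a, b, hab⟩

/-- the columns at an eigenvalue -/
theorem mcol_eq (A : Matrix (Fin n) (Fin n) F) (y : Eˣ) : mcol A (y : E) = col (Matrix.toLin' A) (mp F y) := by
  ext j
  have h1 := colOf_add (Matrix.toLin' (A.map (algebraMap F E) - Matrix.scalar (Fin n) (y : E))) j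
  rw [finrank_ker_eigen, finrank_ker_eigen, Finset.sum_range_succ] at h1
  rw [col_apply _ (mp_monic y) (mp_irr y)]
  change colOf _ j = _
  omega

end mcol

/-! ### the orbits -/

section orb

variable {F : Type u} [Field F] [Fintype F] {E : Type v} [Field E] [Algebra F E] [Algebra.IsAlgebraic F E] {q : ℕ}

omit [Algebra.IsAlgebraic F E] [Algebra F E] [Fintype F] [Field F] in
theorem Phi_zpow (k : ℕ) (y : Eˣ) : (Phi q)^[k] y = y ^ ((-(q : ℤ)) ^ k) := by
  induction k with
  | zero => simp
  | succ k ih =>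
    rw [Phi_it, ih, Phi, pow_succ, zpow_mul, zpow_neg, zpow_natCast]

/-- the two sets of orbits -/
def orbEquiv (hF : Fintype.card F = q ^ 2) : OI E hF ≃ Orb E (-(q : ℤ)) :=
  Quotient.congr (Equiv.refl Eˣ) (fun y z => by
    change (∃ k : ℕ, (Phi q)^[k] y = z) ↔ ∃ i j : ℕ, y ^ ((-(q : ℤ)) ^ i) = z ^ ((-(q : ℤ)) ^ j)
    constructor
    · rintro ⟨k, rfl⟩
      exact ⟨k, 0, by rw [Phi_zpow, pow_zero, zpow_one]⟩
    · rintro ⟨i, j, hij⟩
      rw [← Phi_zpow, ← Phi_zpow] at hij
      have h1 : OI.mk hF y = OI.mk hF z := by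
        rw [OI.mk_eq_iff.2 ⟨i, rfl⟩, hij]
        exact (OI.mk_eq_iff.2 ⟨j, rfl⟩).symm
      exact OI.mk_eq_iff.1 h1)

theorem orbEquiv_mk (hF : Fintype.card F = q ^ 2) (y : Eˣ) :
    orbEquiv hF (OI.mk hF y) = Quotient.mk (orbSetoid E (-(q : ℤ))) y := rfl

theorem dOrb_eq (hF : Fintype.card F = q ^ 2) (i : OI E hF) : dOrb E (-(q : ℤ)) (orbEquiv hF i) = i.d := by
  have h1 := OI.ncard_eq hF i.rep
  rw [i.mk_rep] at h1
  rw [OI.d, ← h1, dOrb, ← Nat.card_coe_set_eq]
  refine Nat.card_congr (Equiv.subtypeEquivRight fun y => ?_)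
  rw [← orbEquiv_mk hF, (orbEquiv hF).injective.eq_iff]
  rfl

end orb

/-! ### transport of type data -/

section map

variable {I : Type u} {I' : Type v} {d : I → ℕ} {d' : I' → ℕ} {Q : ℤ} (e : I ≃ I') (hd : ∀ i, d' (e i) = d i)

/-- transport of types -/
noncomputable def tmap (lam : Ty I) : Ty I' := Finsupp.equivMapDomain e lam

theorem tmap_apply (lam : Ty I) (i : I') : tmap e lam i = lam (e.symm i) := rfl

theorem tmap_apply' (lam : Ty I) (i : I) : tmap e lam (e i) = lam i := by
  rw [tmap_apply, e.symm_apply_apply]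

theorem tmap_support (lam : Ty I) : (tmap e lam).support = lam.support.map e.toEmbedding := rfl

theorem tmap_injective : Function.Injective (tmap e) := by
  intro a b h
  ext1 i
  rw [← tmap_apply' e, h, tmap_apply']

theorem tmap_symm (lam : Ty I') : tmap e (tmap e.symm lam) = lam := by
  ext1 i
  rw [tmap_apply, tmap_apply, Equiv.symm_symm, e.apply_symm_apply]

include hd in
theorem tdeg_tmap (lam : Ty I) : tdeg d' (tmap e lam) = tdeg d lam := by
  rw [tdeg, tdeg, Finsupp.sum, Finsupp.sum, tmap_support, Finset.sum_map]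
  exact Finset.sum_congr rfl fun i _ => by
    change d' (e i) * (tmap e lam (e i)).size = _
    rw [hd, tmap_apply']

include hd in
theorem tip_tmap (lam mu : Ty I) : tip d' (tmap e lam) (tmap e mu) = tip d lam mu := by
  rw [tip, tip, Finsupp.sum, Finsupp.sum, tmap_support, Finset.sum_map]
  exact Finset.sum_congr rfl fun i _ => by
    change d' (e i) * (tmap e lam (e i)).ip (tmap e mu (e i)) = _
    rw [hd, tmap_apply', tmap_apply']

include hd in
theorem Ag_tmap (lam : Ty I) : Ag d' Q (tmap e lam) = Ag d Q lam := by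
  rw [Ag, Ag, tmap_support, Finset.prod_map]
  exact Finset.prod_congr rfl fun i _ => by
    change ev ((Q : ℂ) ^ d' (e i)) (ap (tmap e lam (e i))) = _
    rw [hd, tmap_apply']

/-- transport of type data -/
noncomputable def TDmap {G : Type w} [Group G] {n : ℕ} (D : TypeData d Q G n) : TypeData d' Q G n where
  typ g := tmap e (D.typ g)
  conj g h := by rw [D.conj]
  deg g := by rw [tdeg_tmap e hd, D.deg]
  sep g g' h := D.sep g g' (tmap_injective e h)
  card lam hlam := by
    have h1 := D.card (tmap e.symm lam) (by rw [← tdeg_tmap e hd, tmap_symm, hlam])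
    rw [← Ag_tmap e hd, tmap_symm] at h1
    rw [← h1]
    congr 2
    refine Nat.card_congr (Equiv.subtypeEquivRight fun g => ?_)
    constructor
    · rintro rfl
      exact (tmap_symm e.symm _).symm
    · intro h
      rw [h, tmap_symm]

end map

section final

variable {F : Type u} [Field F] [Fintype F] {E : Type v} [Field E] [Algebra F E] [Algebra.IsAlgebraic F E]
  [IsAlgClosed E] {q n : ℕ}

/-- the class data of `GU_n(q)` in the frame of the hub -/
noncomputable def typeDataO (E : Type v) [Field E] [Algebra F E] [Algebra.IsAlgebraic F E] [IsAlgClosed E]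
    (hF : Fintype.card F = q ^ 2) (n : ℕ) : TypeData (dOrb E (-(q : ℤ))) (-(q : ℤ)) (GU n F q) n :=
  TDmap (orbEquiv hF) (dOrb_eq hF) (typeData (E := E) hF n)

theorem typeDataO_typ (hF : Fintype.card F = q ^ 2) (g : GU n F q) (y : Eˣ) :
    (typeDataO E hF n).typ g (Quotient.mk (orbSetoid E (-(q : ℤ))) y) =
      mcol ((g : GL (Fin n) F) : Matrix (Fin n) (Fin n) F) (y : E) := by
  rw [mcol_eq, ← orbEquiv_mk hF]
  change tmap (orbEquiv hF) _ _ = _
  rw [tmap_apply']
  exact tyF_mk hF (hf_std (q := q) hF n) (gmat_isom hF g) y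

open scoped Kronecker in
theorem finrank_kronO (hF : Fintype.card F = q ^ 2) {m : ℕ} (g : GU n F q) (h : GU m F q) :
    finrank F (LinearMap.ker (Matrix.toLin' (((g : GL (Fin n) F) : Matrix (Fin n) (Fin n) F) ⊗ₖ
      ((h : GL (Fin m) F) : Matrix (Fin m) (Fin m) F)) - 1)) =
      tip (dOrb E (-(q : ℤ))) ((typeDataO E hF n).typ g) ((typeDataO E hF m).typ h⁻¹) := by
  refine (finrank_kron (E := E) hF g h).trans ?_
  exact (tip_tmap (orbEquiv hF) (dOrb_eq hF) _ _).symm

end final

end Cfsg.Agent.H794.GUT
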