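import Cfsg.Agent.H794.GUT.Herm
import Cfsg.Agent.H615.GU.Types
import Cfsg.Agent.H174.JordanMatrix

/-!
# The column lengths of an endomorphism at an irreducible polynomial (class data of `GU_n(q)`, S4537, helper794)

* `kd T φ j = dim ker φ(T)^j`, `cf T φ j` : number of primary blocks `F[X] / (φ ^ e)` with `e > j`;
* `col T φ : Col`; `cf_prod`, `cf_congr`, `size_col_of_dec`;
* `kd_main`, `kd_other` : `K / F` an extension, `T` a `K`-linear map with `T - θ` nilpotent, as an `F`-linear map.
-/

set_option autoImplicit false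

open Module Polynomial

namespace Cfsg.Agent.H794.GUT

open Cfsg.Agent.H152 Cfsg.Agent.H615.GU

universe u v w

section

variable {F : Type u} [Field F] {V : Type v} [AddCommGroup V] [Module F V] {V' : Type w} [AddCommGroup V'] [Module F V']

/-- dimension of the kernel of `φ(T) ^ j` -/
noncomputable def kd (T : End F V) (φ : F[X]) (j : ℕ) : ℕ := finrank F (LinearMap.ker (aeval T (φ ^ j)))

/-- column lengths -/
noncomputable def cf (T : End F V) (φ : F[X]) (j : ℕ) : ℕ := (kd T φ (j + 1) - kd T φ j) / φ.natDegree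

theorem cf_of_kd {T : End F V} {φ : F[X]} (hirr : Irreducible φ) {c : ℕ → ℕ}
    (h : ∀ j, kd T φ j = φ.natDegree * ∑ i ∈ Finset.range j, c i) (j : ℕ) : cf T φ j = c j := by
  rw [cf, h, h, Finset.sum_range_succ, mul_add, Nat.add_sub_cancel_left, Nat.mul_div_cancel_left _ hirr.natDegree_pos]

theorem min_eq_sum (j e : ℕ) : min j e = ∑ i ∈ Finset.range j, if i < e then 1 else 0 := by
  induction j with
  | zero => simp
  | succ j ih =>
    rw [Finset.sum_range_succ, ← ih]
    split_ifs with h
    · omega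
    · omega

theorem kd_of_dec [DecidableEq F[X]] {T : End F V} {ι : Type*} [Fintype ι] {p : ι → F[X]} {e : ι → ℕ} {v : ι → V}
    (h : IsDec T p e v) {φ : F[X]} (hφ : φ.Monic) (hirr : Irreducible φ) (j : ℕ) :
    kd T φ j = φ.natDegree * ∑ i ∈ Finset.range j, (Finset.univ.filter fun k => p k = φ ∧ i < e k).card := by
  rw [kd, h.finrank_ker_pow hφ hirr]
  simp_rw [Finset.card_filter]
  rw [Finset.sum_comm, Finset.mul_sum]
  refine Finset.sum_congr rfl fun k _ => ?_
  by_cases hk : p k = φ
  · simp only [hk, if_true, true_and]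
    rw [min_eq_sum, mul_comm]
  · simp [hk]

theorem cf_of_dec [DecidableEq F[X]] {T : End F V} {ι : Type*} [Fintype ι] {p : ι → F[X]} {e : ι → ℕ} {v : ι → V}
    (h : IsDec T p e v) {φ : F[X]} (hφ : φ.Monic) (hirr : Irreducible φ) (j : ℕ) :
    cf T φ j = (Finset.univ.filter fun k => p k = φ ∧ j < e k).card :=
  cf_of_kd hirr (kd_of_dec h hφ hirr) j

theorem kd_eq [FiniteDimensional F V] (T : End F V) {φ : F[X]} (hφ : φ.Monic) (hirr : Irreducible φ) (j : ℕ) :
    kd T φ j = φ.natDegree * ∑ i ∈ Finset.range j, cf T φ i := by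
  classical
  obtain ⟨d, p, e, v, h⟩ := exists_dec T
  rw [kd_of_dec h hφ hirr]
  congr 1
  exact Finset.sum_congr rfl fun i _ => (cf_of_dec h hφ hirr i).symm

theorem cf_anti [FiniteDimensional F V] (T : End F V) {φ : F[X]} (hφ : φ.Monic) (hirr : Irreducible φ) :
    Antitone (cf T φ) := by
  classical
  obtain ⟨d, p, e, v, h⟩ := exists_dec T
  intro i j hij
  rw [cf_of_dec h hφ hirr, cf_of_dec h hφ hirr]
  exact Finset.card_le_card fun k hk => by
    rw [Finset.mem_filter] at hk ⊢
    exact ⟨hk.1, hk.2.1, hij.trans_lt hk.2.2⟩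

theorem cf_eq_zero [FiniteDimensional F V] (T : End F V) {φ : F[X]} (hφ : φ.Monic) (hirr : Irreducible φ) {j : ℕ}
    (hj : finrank F V ≤ j) : cf T φ j = 0 := by
  classical
  obtain ⟨d, p, e, v, h⟩ := exists_dec T
  rw [cf_of_dec h hφ hirr, Finset.card_eq_zero, Finset.filter_false_of_mem]
  rintro k - ⟨-, hk⟩
  exact absurd (h.e_le k) (by omega)

/-- the column lengths, finitely supported -/
noncomputable def fcol [FiniteDimensional F V] (T : End F V) (φ : F[X]) (hφ : φ.Monic) (hirr : Irreducible φ) : ℕ →₀ ℕ :=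
  Finsupp.onFinset (Finset.range (finrank F V)) (cf T φ) (fun j hj => by
      rw [Finset.mem_range]
      by_contra hc
      exact hj (cf_eq_zero T hφ hirr (not_lt.1 hc)))

theorem fcol_coe [FiniteDimensional F V] (T : End F V) {φ : F[X]} (hφ : φ.Monic) (hirr : Irreducible φ) :
    (fcol T φ hφ hirr : ℕ → ℕ) = cf T φ := rfl

/-- the column lengths -/
noncomputable def ccol [FiniteDimensional F V] (T : End F V) (φ : F[X]) (hφ : φ.Monic) (hirr : Irreducible φ) : Col :=
  ⟨fcol T φ hφ hirr, by rw [fcol_coe]; exact cf_anti T hφ hirr⟩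

open Classical in
/-- the column lengths as an element of `Col` -/
noncomputable def col [FiniteDimensional F V] (T : End F V) (φ : F[X]) : Col :=
  if h : φ.Monic ∧ Irreducible φ then ccol T φ h.1 h.2 else 0

theorem col_apply [FiniteDimensional F V] (T : End F V) {φ : F[X]} (hφ : φ.Monic) (hirr : Irreducible φ) (j : ℕ) :
    col T φ j = cf T φ j := by
  rw [col, dif_pos ⟨hφ, hirr⟩]
  rfl

theorem size_eq (l : Col) {b : ℕ} (hb : ∀ j, b ≤ j → l j = 0) : l.size = ∑ j ∈ Finset.range b, l j := by
  refine Finset.sum_subset (s₁ := l.1.support) ?_ ?_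
  · intro i hi
    rw [Finset.mem_range]
    by_contra hcon
    exact (Finsupp.mem_support_iff.1 hi) (hb i (not_lt.1 hcon))
  · intro i _ hi
    exact Finsupp.notMem_support_iff.1 hi

theorem size_col_of_dec [FiniteDimensional F V] [DecidableEq F[X]] {T : End F V} {ι : Type*} [Fintype ι] {p : ι → F[X]}
    {e : ι → ℕ} {v : ι → V} (h : IsDec T p e v) {φ : F[X]} (hφ : φ.Monic) (hirr : Irreducible φ) :
    (col T φ).size = ∑ k, if p k = φ then e k else 0 := by
  rw [size_eq (col T φ) (b := finrank F V) (fun j hj => by rw [col_apply T hφ hirr, cf_eq_zero T hφ hirr hj])]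
  simp_rw [col_apply T hφ hirr, cf_of_dec h hφ hirr, Finset.card_filter]
  rw [Finset.sum_comm]
  refine Finset.sum_congr rfl fun k _ => ?_
  by_cases hk : p k = φ
  · simp only [hk, if_true, true_and]
    rw [← min_eq_sum, min_eq_right (h.e_le k)]
  · simp [hk]

theorem col_eq_of_kd [FiniteDimensional F V] [FiniteDimensional F V'] {T : End F V} {T' : End F V'} {φ φ' : F[X]}
    (hd : φ.natDegree = φ'.natDegree)
    (hφ : φ.Monic) (hirr : Irreducible φ) (hφ' : φ'.Monic) (hirr' : Irreducible φ')
    (h : ∀ j, kd T φ j = kd T' φ' j) : col T φ = col T' φ' := by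
  ext j
  rw [col_apply T hφ hirr, col_apply T' hφ' hirr', cf, cf, h, h, hd]

theorem kd_eq_of_col [FiniteDimensional F V] [FiniteDimensional F V'] {T : End F V} {T' : End F V'} {φ : F[X]}
    (hφ : φ.Monic) (hirr : Irreducible φ) (h : col T φ = col T' φ) (j : ℕ) : kd T φ j = kd T' φ j := by
  rw [kd_eq T hφ hirr, kd_eq T' hφ hirr]
  congr 1
  refine Finset.sum_congr rfl fun i _ => ?_
  rw [← col_apply T hφ hirr, ← col_apply T' hφ hirr, h]

theorem kd_congr {T : End F V} {T' : End F V'} (E : V ≃ₗ[F] V') (hE : ∀ x, E (T x) = T' (E x)) (φ : F[X]) (j : ℕ) :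
    kd T φ j = kd T' φ j := finrank_ker_intertwine E hE _

theorem col_congr [FiniteDimensional F V] [FiniteDimensional F V'] {T : End F V} {T' : End F V'} (E : V ≃ₗ[F] V')
    (hE : ∀ x, E (T x) = T' (E x)) (φ : F[X]) : col T φ = col T' φ := by
  by_cases h : φ.Monic ∧ Irreducible φ
  · exact col_eq_of_kd rfl h.1 h.2 h.1 h.2 (kd_congr E hE φ)
  · rw [col, col, dif_neg h, dif_neg h]

/-- the product of two subspaces -/
def prodE (p : Submodule F V) (p' : Submodule F V') : (p.prod p') ≃ₗ[F] p × p' where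
  toFun x := (⟨x.1.1, x.2.1⟩, ⟨x.1.2, x.2.2⟩)
  invFun y := ⟨(y.1.1, y.2.1), ⟨y.1.2, y.2.2⟩⟩
  map_add' _ _ := rfl
  map_smul' _ _ := rfl
  left_inv _ := rfl
  right_inv _ := rfl

theorem kd_prod [FiniteDimensional F V] [FiniteDimensional F V'] (T : End F V) (T' : End F V') (φ : F[X]) (j : ℕ) :
    kd (T.prodMap T' : End F (V × V')) φ j = kd T φ j + kd T' φ j := by
  have h1 : LinearMap.ker (aeval (T.prodMap T' : End F (V × V')) (φ ^ j)) =
      (LinearMap.ker (aeval T (φ ^ j))).prod (LinearMap.ker (aeval T' (φ ^ j))) := by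
    ext ⟨x, y⟩
    rw [LinearMap.mem_ker, aeval_prodMap, Submodule.mem_prod, LinearMap.mem_ker, LinearMap.mem_ker, Prod.mk_eq_zero]
  rw [kd, h1, (prodE _ _).finrank_eq, finrank_prod, kd, kd]

theorem cf_prod [FiniteDimensional F V] [FiniteDimensional F V'] (T : End F V) (T' : End F V') {φ : F[X]}
    (hφ : φ.Monic) (hirr : Irreducible φ) (j : ℕ) :
    cf (T.prodMap T' : End F (V × V')) φ j = cf T φ j + cf T' φ j :=
  cf_of_kd (c := fun j => cf T φ j + cf T' φ j) hirr (fun j => by
    rw [kd_prod, kd_eq T hφ hirr, kd_eq T' hφ hirr, Finset.sum_add_distrib, mul_add]) j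

theorem kd_zero_iff [FiniteDimensional F V] (T : End F V) {φ : F[X]} (hφ : φ.Monic) (hirr : Irreducible φ) :
    col T φ = 0 ↔ kd T φ 1 = 0 := by
  rw [kd_eq T hφ hirr, Finset.sum_range_one]
  constructor
  · intro h
    rw [← col_apply T hφ hirr, h, Col.zero_apply, mul_zero]
  · intro h
    ext j
    rw [Col.zero_apply, col_apply T hφ hirr]
    have h1 := (Nat.mul_eq_zero.1 h).resolve_left hirr.natDegree_pos.ne'
    exact Nat.le_zero.1 ((cf_anti T hφ hirr (Nat.zero_le j)).trans_eq h1)

/-- if no irreducible polynomial is in both types then the minimal polynomials are coprime -/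
theorem exists_coprime [FiniteDimensional F V] [FiniteDimensional F V'] (T : End F V) (T' : End F V')
    (h : ∀ φ : F[X], φ.Monic → Irreducible φ → col T φ = 0 ∨ col T' φ = 0) :
    IsCoprime (minpoly F T) (minpoly F T') := by
  classical
  have hT : IsIntegral F T := Algebra.IsIntegral.isIntegral T
  have hT' : IsIntegral F T' := Algebra.IsIntegral.isIntegral T'
  rw [← EuclideanDomain.gcd_isUnit_iff]
  by_contra hg
  obtain ⟨φ, hirr0, hdvd0⟩ := WfDvdMonoid.exists_irreducible_factor hg
    (fun h0 => minpoly.ne_zero hT (EuclideanDomain.gcd_eq_zero_iff.1 h0).1)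
  obtain ⟨ψ, hψm, hψ⟩ : ∃ ψ : F[X], ψ.Monic ∧ Associated φ ψ := by
    classical
    exact ⟨normalize φ, Polynomial.monic_normalize hirr0.ne_zero, (normalize_associated φ).symm⟩
  have hirr : Irreducible ψ := hψ.irreducible hirr0
  have hdvd := hψ.dvd_iff_dvd_left.1 hdvd0
  have h1 : ψ ∣ minpoly F T := hdvd.trans (EuclideanDomain.gcd_dvd_left _ _)
  have h2 : ψ ∣ minpoly F T' := hdvd.trans (EuclideanDomain.gcd_dvd_right _ _)
  rcases h ψ hψm hirr with h3 | h3
  · rw [kd_zero_iff T hψm hirr, kd, pow_one, Submodule.finrank_eq_zero] at h3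
    obtain ⟨r, hr⟩ := h1
    have h4 : aeval T r = 0 := by
      have h5 : aeval T ψ * aeval T r = 0 := by rw [← map_mul, ← hr, minpoly.aeval]
      ext x
      have h6 : aeval T r x ∈ LinearMap.ker (aeval T ψ) := by
        rw [LinearMap.mem_ker, ← Module.End.mul_apply, h5, LinearMap.zero_apply]
      rw [h3] at h6
      exact h6
    have h7 := minpoly.dvd F T h4
    rw [hr] at h7
    have hr0 : r ≠ 0 := fun h0 => minpoly.ne_zero hT (by rw [hr, h0, mul_zero])
    have h8 := Polynomial.natDegree_le_of_dvd h7 hr0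
    rw [Polynomial.natDegree_mul hψm.ne_zero hr0] at h8
    have := hirr.natDegree_pos
    omega
  · rw [kd_zero_iff T' hψm hirr, kd, pow_one, Submodule.finrank_eq_zero] at h3
    obtain ⟨r, hr⟩ := h2
    have h4 : aeval T' r = 0 := by
      have h5 : aeval T' ψ * aeval T' r = 0 := by rw [← map_mul, ← hr, minpoly.aeval]
      ext x
      have h6 : aeval T' r x ∈ LinearMap.ker (aeval T' ψ) := by
        rw [LinearMap.mem_ker, ← Module.End.mul_apply, h5, LinearMap.zero_apply]
      rw [h3] at h6
      exact h6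
    have h7 := minpoly.dvd F T' h4
    rw [hr] at h7
    have hr0 : r ≠ 0 := fun h0 => minpoly.ne_zero hT' (by rw [hr, h0, mul_zero])
    have h8 := Polynomial.natDegree_le_of_dvd h7 hr0
    rw [Polynomial.natDegree_mul hψm.ne_zero hr0] at h8
    have := hirr.natDegree_pos
    omega

/-- an injective operator has no eigenvalue `0` -/
theorem col_X [FiniteDimensional F V] {T : End F V} (hT : Function.Injective T) : col T (X : F[X]) = 0 := by
  rw [kd_zero_iff T monic_X irreducible_X, kd, pow_one, aeval_X, LinearMap.ker_eq_bot.2 hT, finrank_bot]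

end

/-! ### scalar extension -/

section ext

variable {F : Type u} [Field F] {K : Type v} [Field K] [Algebra F K] {W : Type w} [AddCommGroup W] [Module F W]
  [Module K W] [IsScalarTower F K W]

theorem aeval_restrict (T : End K W) (P : F[X]) (x : W) :
    aeval (T.restrictScalars F : End F W) P x = aeval T (P.map (algebraMap F K)) x := by
  induction P using Polynomial.induction_on' with
  | add f g hf hg => rw [map_add, LinearMap.add_apply, hf, hg, Polynomial.map_add, map_add, LinearMap.add_apply]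
  | monomial n a =>
    rw [Polynomial.map_monomial, aeval_monomial, aeval_monomial, Module.End.mul_apply, Module.End.mul_apply,
      Module.algebraMap_end_apply, Module.algebraMap_end_apply, algebraMap_smul]
    congr 1
    induction n generalizing x with
    | zero => rfl
    | succ n ih => rw [pow_succ, pow_succ, Module.End.mul_apply, Module.End.mul_apply, ih]; rfl

theorem kd_restrict (T : End K W) (φ : F[X]) (j : ℕ) :
    kd (T.restrictScalars F : End F W) φ j =
      finrank F K * finrank K (LinearMap.ker (aeval T ((φ.map (algebraMap F K)) ^ j))) := by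
  have h1 : LinearMap.ker (aeval (T.restrictScalars F : End F W) (φ ^ j)) =
      (LinearMap.ker (aeval T ((φ.map (algebraMap F K)) ^ j))).restrictScalars F := by
    ext x
    rw [LinearMap.mem_ker, aeval_restrict, Polynomial.map_pow]
    rfl
  rw [kd, h1, finrank_mul_finrank F K]
  rfl

/-- values of polynomials at `T`, `T - θ` nilpotent -/
theorem isUnit_aeval {T : End K W} {θ : K} (hT : IsNilpotent (T - algebraMap K (End K W) θ)) {r : K[X]}
    (hr : r.eval θ ≠ 0) : IsUnit (aeval T r) := by
  obtain ⟨N, hN⟩ := hT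
  have h1 : IsCoprime r ((X - C θ) ^ N) := by
    refine IsCoprime.pow_right ?_
    rw [isCoprime_comm, (irreducible_X_sub_C θ).coprime_iff_not_dvd, dvd_iff_isRoot]
    exact hr
  obtain ⟨A, B, hAB⟩ := h1
  have h2 := congrArg (aeval T) hAB
  rw [map_add, map_mul, map_mul, map_pow, map_sub, aeval_X, aeval_C, hN, mul_zero, add_zero, map_one] at h2
  exact ⟨⟨aeval T r, aeval T A, by rw [← map_mul, mul_comm, map_mul, h2], h2⟩, rfl⟩

theorem ker_unit_mul {A B : End K W} (hA : IsUnit A) : LinearMap.ker (A * B) = LinearMap.ker B := by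
  obtain ⟨A, rfl⟩ := hA
  ext x
  rw [LinearMap.mem_ker, LinearMap.mem_ker, Module.End.mul_apply]
  constructor
  · intro h
    have h1 := congrArg ((A⁻¹ : (End K W)ˣ) : End K W) h
    rwa [← Module.End.mul_apply, Units.inv_mul, map_zero, Module.End.one_apply] at h1
  · intro h
    rw [h, map_zero]

theorem kd_main [Finite F] [FiniteDimensional F K] {T : End K W} {θ : K} (hT : IsNilpotent (T - algebraMap K (End K W) θ)) (j : ℕ) :
    kd (T.restrictScalars F : End F W) (minpoly F θ) j =
      finrank F K * finrank K (LinearMap.ker ((T - algebraMap K (End K W) θ) ^ j)) := by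
  rw [kd_restrict]
  congr 1
  have h0 : ((minpoly F θ).map (algebraMap F K)).eval θ = 0 := by
    rw [eval_map_algebraMap, minpoly.aeval]
  obtain ⟨r, hr⟩ := dvd_iff_isRoot.2 h0
  have hsep : (minpoly F θ).Separable := Algebra.IsSeparable.isSeparable F θ
  have hrθ : r.eval θ ≠ 0 := by
    have h1 := hsep.map (f := algebraMap F K)
    have h2 := congrArg derivative hr
    intro h3
    have h4 : (derivative ((minpoly F θ).map (algebraMap F K))).eval θ = 0 := by
      rw [h2, derivative_mul, eval_add, eval_mul, eval_mul, h3, mul_zero, eval_sub, eval_X, eval_C, sub_self, zero_mul,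
        add_zero]
    refine h1.aeval_derivative_ne_zero (x := θ) ?_ ?_
    · rw [coe_aeval_eq_eval]; exact h0
    · rw [coe_aeval_eq_eval]; exact h4
  rw [hr, mul_comm, mul_pow, map_mul, ker_unit_mul, map_pow, map_sub, aeval_X, aeval_C]
  rw [map_pow]
  exact (isUnit_aeval hT hrθ).pow j

theorem kd_other {T : End K W} {θ : K} (hT : IsNilpotent (T - algebraMap K (End K W) θ)) {φ : F[X]} (hφ : φ.Monic)
    (hirr : Irreducible φ) (hne : φ ≠ minpoly F θ) (j : ℕ) : kd (T.restrictScalars F : End F W) φ j = 0 := by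
  rw [kd_restrict]
  have h1 : (φ.map (algebraMap F K)).eval θ ≠ 0 := by
    rw [eval_map_algebraMap]
    intro h2
    exact hne (minpoly.eq_of_irreducible_of_monic hirr h2 hφ)
  have h2 := (isUnit_aeval hT h1).pow j
  rw [← map_pow] at h2
  have h3 := ker_unit_mul (B := 1) h2
  rw [mul_one] at h3
  rw [h3]
  have h4 : LinearMap.ker (1 : End K W) = ⊥ := LinearMap.ker_eq_bot.2 fun x y h => h
  rw [h4, finrank_bot, mul_zero]

end ext

end Cfsg.Agent.H794.GUT
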