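import Cfsg.Agent.H794.GUT.Cols

/-!
# Centralisers and scalar extensions; hyperbolic spaces (class data of `GU_n(q)`, S4537, helper794)

* `card_units_restrict`, `card_UC_trace` : `K = F[θ]`, `T` a `K`-linear map one of whose powers is the scalar `θ`;
* `hyp`, `card_UC_hyp` : the hyperbolic space `F^N ⊕ F^N` with `(A, (st A)⁻¹)`.
-/

set_option autoImplicit false

open Module Polynomial

namespace Cfsg.Agent.H794.GUT

open Cfsg Cfsg.Agent.H186 Cfsg.Agent.H152 Cfsg.Agent.H615.GU Cfsg.Agent.ClassicalGeometry.GUBasic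

universe u v w

section ext

variable {F : Type u} [Field F] {K : Type v} [Field K] [Algebra F K] {W : Type w} [AddCommGroup W] [Module F W]
  [Module K W] [IsScalarTower F K W]

theorem klin_of_comm {θ : K} (hgen : Algebra.adjoin F {θ} = ⊤) {b : End F W} (hb : ∀ x, b (θ • x) = θ • b x)
    (c : K) (x : W) : b (c • x) = c • b x := by
  have h1 : c ∈ Algebra.adjoin F {θ} := by rw [hgen]; trivial
  induction h1 using Algebra.adjoin_induction generalizing x with
  | mem y hy =>
    rw [Set.mem_singleton_iff] at hy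
    rw [hy, hb]
  | algebraMap r => rw [algebraMap_smul, algebraMap_smul, map_smul]
  | add y z _ _ hy hz => rw [add_smul, add_smul, map_add, hy, hz]
  | mul y z _ _ hy hz => rw [mul_smul, mul_smul, hy, hz]

theorem comm_theta {θ : K} {T : End K W} {N : ℕ} (hN : ∀ x, (T ^ N) x = θ • x) {b : End F W}
    (hb : b * T.restrictScalars F = T.restrictScalars F * b) (x : W) : b (θ • x) = θ • b x := by
  have h1 : ∀ (k : ℕ) (x : W), b ((T ^ k) x) = (T ^ k) (b x) := by
    intro k
    induction k with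
    | zero => intro x; rfl
    | succ k ih =>
      intro x
      rw [pow_succ, Module.End.mul_apply, ih, Module.End.mul_apply]
      congr 1
      exact LinearMap.congr_fun hb x
  rw [← hN, h1, hN]

/-- the `K`-linear map -/
def mkK (b : End F W) (hb : ∀ (c : K) (x : W), b (c • x) = c • b x) : End K W where
  toFun := b
  map_add' := b.map_add
  map_smul' := hb

theorem card_units_restrict {θ : K} (hgen : Algebra.adjoin F {θ} = ⊤) {T : End K W} {N : ℕ}
    (hN : ∀ x, (T ^ N) x = θ • x) :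
    Nat.card {b : End F W // IsUnit b ∧ b * T.restrictScalars F = T.restrictScalars F * b} =
      Nat.card {B : End K W // IsUnit B ∧ B * T = T * B} := by
  refine Nat.card_congr
    { toFun := fun b => ⟨mkK b.1 (klin_of_comm hgen (comm_theta hN b.2.2)), ?_, ?_⟩
      invFun := fun B => ⟨B.1.restrictScalars F, ?_, ?_⟩
      left_inv := fun b => rfl
      right_inv := fun b => rfl }
  · rw [Module.End.isUnit_iff]
    exact (Module.End.isUnit_iff b.1).1 b.2.1
  · ext x
    exact LinearMap.congr_fun b.2.2 x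
  · rw [Module.End.isUnit_iff]
    exact (Module.End.isUnit_iff B.1).1 B.2.1
  · ext x
    exact LinearMap.congr_fun B.2.2 x

theorem UC_smul {q : ℕ} {H : W → W → K} (_ : HF q H) {θ : K} (hθ : θ ≠ 0) (u : End K W) :
    Nat.card (UC H (θ • u)) = Nat.card (UC H u) := by
  refine Nat.card_congr (Equiv.subtypeEquivRight fun b => ?_)
  rw [mul_smul_comm, smul_mul_assoc]
  exact and_congr_left fun _ => ⟨fun h => smul_right_injective _ hθ h, fun h => by rw [h]⟩

theorem card_UC_trace {Q : ℕ} {H : W → W → K} (hH : HF Q H) {θ : K} (hgen : Algebra.adjoin F {θ} = ⊤)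
    {T : End K W} {N : ℕ} (hN : ∀ x, (T ^ N) x = θ • x) (hnd : ∀ z : K, (∀ c, Algebra.trace F K (c * z) = 0) → z = 0) :
    Nat.card (UC (fun x y => Algebra.trace F K (H x y)) (T.restrictScalars F)) = Nat.card (UC H T) := by
  refine Nat.card_congr
    { toFun := fun b => ⟨mkK b.1 (klin_of_comm hgen (comm_theta hN b.2.1)), ?_, ?_⟩
      invFun := fun B => ⟨B.1.restrictScalars F, ?_, ?_⟩
      left_inv := fun b => rfl
      right_inv := fun b => rfl }
  · ext x
    exact LinearMap.congr_fun b.2.1 x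
  · intro x y
    rw [← sub_eq_zero]
    refine hnd _ fun c => ?_
    have h1 := b.2.2 (c • x) y
    have h2 := klin_of_comm hgen (comm_theta hN b.2.1) c x
    simp only at h1
    rw [h2, hH.smul, hH.smul] at h1
    rw [mul_sub, map_sub, sub_eq_zero]
    exact h1
  · ext x
    exact LinearMap.congr_fun B.2.1 x
  · intro x y
    exact congrArg (Algebra.trace F K) (B.2.2 x y)

end ext

section trace

variable {F : Type u} [Field F] [Fintype F] {K : Type v} [Field K] [Fintype K] [Algebra F K] {q d : ℕ}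

theorem trace_nd (z : K) (hz : ∀ c, Algebra.trace F K (c * z) = 0) : z = 0 := by
  have : FiniteDimensional F K := Module.Finite.of_finite
  by_contra hne
  obtain ⟨c, hc⟩ := Algebra.trace_surjective F K 1
  have h1 := hz (c * z⁻¹)
  rw [mul_assoc, inv_mul_cancel₀ hne, mul_one, hc] at h1
  exact one_ne_zero h1

theorem pow_odd (hF : Fintype.card F = q ^ 2) {d : ℕ} (hd : Odd d) (x : F) : x ^ q ^ d = x ^ q := by
  obtain ⟨k, rfl⟩ := hd
  rw [pow_succ, pow_mul q 2 k, ← hF, pow_mul, FiniteField.pow_card_pow]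

/-- the trace form -/
theorem hf_trace (hF : Fintype.card F = q ^ 2) (hd : Odd d) (hK : Fintype.card K = (q ^ d) ^ 2) (m : ℕ) :
    HF q (fun x y : Fin m → K => Algebra.trace F K (hermForm m K (q ^ d) x y)) := by
  have hH := hf_std (q := q ^ d) hK m
  obtain ⟨σ, hσ⟩ := exists_powHom hF
  obtain ⟨τ, hτ⟩ := exists_powHom hK
  have hσσ : ∀ x, σ (σ x) = x := fun x => by rw [hσ, hσ, pow_pow_q hF]
  have hττ : ∀ x, τ (τ x) = x := fun x => by rw [hτ, hτ, pow_pow_q hK]
  let e₁ : F ≃+* F := RingEquiv.ofRingHom σ σ (RingHom.ext hσσ) (RingHom.ext hσσ)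
  let e₂ : K ≃+* K := RingEquiv.ofRingHom τ τ (RingHom.ext hττ) (RingHom.ext hττ)
  have htr : ∀ z : K, Algebra.trace F K (z ^ q ^ d) = (Algebra.trace F K z) ^ q := by
    intro z
    have h1 := Algebra.trace_eq_of_equiv_equiv e₁ e₂ (by
      ext x
      change algebraMap F K (σ x) = τ (algebraMap F K x)
      rw [hσ, hτ, ← map_pow, pow_odd hF hd]) z
    have h2 : e₂ z = z ^ q ^ d := hτ z
    rw [h2] at h1
    rw [h1, ← hσ]
    change _ = σ (σ _)
    rw [hσσ]
  refine ⟨fun x x' y => ?_, fun c x y => ?_, fun x y => ?_, fun x hx => ?_⟩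
  · rw [hH.add, map_add]
  · have h1 : c • x = algebraMap F K c • x := by rw [algebraMap_smul]
    rw [h1, hH.smul, ← Algebra.smul_def, map_smul, smul_eq_mul]
  · rw [hH.symm x y, htr]
  · refine hH.nd x fun y => trace_nd (F := F) _ fun c => ?_
    have h1 := hx (τ c • y)
    rw [hH.smul_right, ← hτ, hττ] at h1
    exact h1

end trace

/-! ### hyperbolic spaces -/

section hyp

variable {F : Type u} [Field F] [Fintype F] {q N : ℕ}

/-- the hyperbolic form -/
def hyp (N : ℕ) (F : Type u) [Field F] (q : ℕ) (v w : (Fin N → F) × (Fin N → F)) : F :=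
  hermForm N F q v.1 w.2 + hermForm N F q v.2 w.1

theorem hf_hyp (hF : Fintype.card F = q ^ 2) (N : ℕ) : HF q (hyp N F q) := by
  have hH := hf_std (q := q) hF N
  refine ⟨fun x x' y => ?_, fun c x y => ?_, fun x y => ?_, fun x hx => Prod.ext ?_ ?_⟩
  · simp only [hyp, Prod.fst_add, Prod.snd_add, hH.add]
    ring
  · simp only [hyp, Prod.smul_fst, Prod.smul_snd, hH.smul]
    ring
  · obtain ⟨σ, hσ⟩ := exists_powHom hF
    simp only [hyp]
    rw [← hσ, map_add, hσ, hσ, ← hH.symm, ← hH.symm, add_comm]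
  · refine hH.nd _ fun y => ?_
    have := hx (0, y)
    simpa only [hyp, hH.zero_right hF, add_zero] using this
  · refine hH.nd _ fun y => ?_
    have := hx (y, 0)
    simpa only [hyp, hH.zero_right hF, zero_add] using this

theorem st_unit (hF : Fintype.card F = q ^ 2) {A : Matrix (Fin N) (Fin N) F} (hA : IsUnit A) :
    st q A * (st q A)⁻¹ = 1 ∧ (st q A)⁻¹ * st q A = 1 := by
  have h1 : IsUnit (st q A) := by
    obtain ⟨u, rfl⟩ := hA
    exact ⟨⟨st q (u : Matrix _ _ F), st q ((u⁻¹ : (Matrix (Fin N) (Fin N) F)ˣ) : Matrix _ _ F),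
      by rw [← st_mul hF, Units.inv_mul, st_one hF], by rw [← st_mul hF, Units.mul_inv, st_one hF]⟩, rfl⟩
  have h2 := (Matrix.isUnit_iff_isUnit_det _).1 h1
  exact ⟨Matrix.mul_nonsing_inv _ h2, Matrix.nonsing_inv_mul _ h2⟩

theorem herm_ext (hF : Fintype.card F = q ^ 2) {M M' : Matrix (Fin N) (Fin N) F}
    (h : ∀ x y, hermForm N F q x (M.mulVec y) = hermForm N F q x (M'.mulVec y)) : M = M' := by
  have hH := hf_std (q := q) hF N
  refine Matrix.ext_of_mulVec_single fun i => ?_
  rw [← sub_eq_zero]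
  refine hH.nd _ fun x => ?_
  rw [hH.symm x]
  have e3 := hH.add_right hF x (M.mulVec (Pi.single i 1) - M'.mulVec (Pi.single i 1)) (M'.mulVec (Pi.single i 1))
  rw [sub_add_cancel, h] at e3
  rw [left_eq_add.1 (e3.trans (add_comm _ _)), zero_pow (q_ne_zero hF)]

/-- the isometry `(A, (st A)⁻¹)` -/
theorem hyp_isom (hF : Fintype.card F = q ^ 2) {A : Matrix (Fin N) (Fin N) F} (hA : IsUnit A)
    (v w : (Fin N → F) × (Fin N → F)) :
    hyp N F q ((Matrix.toLin' A).prodMap (Matrix.toLin' (st q A)⁻¹) v)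
      ((Matrix.toLin' A).prodMap (Matrix.toLin' (st q A)⁻¹) w) = hyp N F q v w := by
  have hH := hf_std (q := q) hF N
  have h1 : ∀ x y, hermForm N F q (A.mulVec x) ((st q A)⁻¹.mulVec y) = hermForm N F q x y := fun x y => by
    rw [hermForm_mulVec hF, Matrix.mulVec_mulVec, (st_unit hF hA).1, Matrix.one_mulVec]
  have h2 : ∀ x y, hermForm N F q ((st q A)⁻¹.mulVec x) (A.mulVec y) = hermForm N F q x y := fun x y => by
    rw [hH.symm, h1, ← hH.symm]
  simp only [hyp, LinearMap.prodMap_apply, Matrix.toLin'_apply]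
  rw [h1, h2]

theorem card_UC_hyp (hF : Fintype.card F = q ^ 2) {A : Matrix (Fin N) (Fin N) F}
    {P P' : F[X]} (hP : aeval (Matrix.toLin' A) P = 0) (hP' : aeval (Matrix.toLin' (st q A)⁻¹) P' = 0)
    (hc : IsCoprime P P') :
    Nat.card (UC (hyp N F q) ((Matrix.toLin' A).prodMap (Matrix.toLin' (st q A)⁻¹))) =
      Nat.card {B : Matrix (Fin N) (Fin N) F // IsUnit B ∧ B * A = A * B} := by
  have hH := hf_std (q := q) hF N
  set T := Matrix.toLin' A with hT
  set T' := Matrix.toLin' (st q A)⁻¹ with hT'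
  have hcomm : ∀ b : UC (hyp N F q) (T.prodMap T'), ∀ x, b.1 (T x.1, T' x.2) = (T (b.1 x).1, T' (b.1 x).2) :=
    fun b x => LinearMap.congr_fun b.2.1 x
  have h12 : ∀ (b : UC (hyp N F q) (T.prodMap T')) (x : Fin N → F), (b.1 (x, 0)).2 = 0 := by
    intro b x
    have h0 := intertwine_eq_zero hP hP' hc (LinearMap.snd F _ _ ∘ₗ b.1 ∘ₗ LinearMap.inl F _ _) (fun x => by
      have := congrArg Prod.snd (hcomm b (x, 0))
      simpa using this)
    exact LinearMap.congr_fun h0 x
  have h21 : ∀ (b : UC (hyp N F q) (T.prodMap T')) (x : Fin N → F), (b.1 (0, x)).1 = 0 := by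
    intro b x
    have h0 := intertwine_eq_zero hP' hP hc.symm (LinearMap.fst F _ _ ∘ₗ b.1 ∘ₗ LinearMap.inr F _ _) (fun x => by
      have := congrArg Prod.fst (hcomm b (0, x))
      simpa using this)
    exact LinearMap.congr_fun h0 x
  let m1 : UC (hyp N F q) (T.prodMap T') → Matrix (Fin N) (Fin N) F := fun b =>
    LinearMap.toMatrix' (LinearMap.fst F _ _ ∘ₗ b.1 ∘ₗ LinearMap.inl F _ _)
  let m2 : UC (hyp N F q) (T.prodMap T') → Matrix (Fin N) (Fin N) F := fun b =>
    LinearMap.toMatrix' (LinearMap.snd F _ _ ∘ₗ b.1 ∘ₗ LinearMap.inr F _ _)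
  have hm1 : ∀ b x, (m1 b).mulVec x = (b.1 (x, 0)).1 := fun b x => LinearMap.toMatrix'_mulVec _ _
  have hm2 : ∀ b x, (m2 b).mulVec x = (b.1 (0, x)).2 := fun b x => LinearMap.toMatrix'_mulVec _ _
  have hadj : ∀ b, st q (m1 b) * m2 b = 1 := by
    intro b
    refine herm_ext hF fun x y => ?_
    have h1 := b.2.2 (x, 0) (0, y)
    simp only [hyp, h12, h21, hH.zero_left, add_zero] at h1
    rw [Matrix.one_mulVec, ← Matrix.mulVec_mulVec, ← hermForm_mulVec hF, hm1, hm2, h1]
  have hu1 : ∀ b, IsUnit (m1 b) := by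
    intro b
    have h1 := hadj b
    have h2 : m2 b * st q (m1 b) = 1 := mul_eq_one_comm.1 h1
    refine ⟨⟨m1 b, st q (m2 b), ?_, ?_⟩, rfl⟩
    · have := congrArg (st q) h2
      rwa [st_mul hF, st_st hF, st_one hF] at this
    · have := congrArg (st q) h1
      rwa [st_mul hF, st_st hF, st_one hF] at this
  refine Nat.card_congr
    { toFun := fun b => ⟨m1 b, hu1 b, ?_⟩
      invFun := fun B => ⟨(Matrix.toLin' B.1).prodMap (Matrix.toLin' (st q B.1)⁻¹), ?_, hyp_isom hF B.2.1⟩
      left_inv := fun b => ?_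
      right_inv := fun B => ?_ }
  · refine Matrix.ext_of_mulVec_single fun i => ?_
    have h1 := congrArg Prod.fst (hcomm b (Pi.single i 1, 0))
    simp only [map_zero, hT, Matrix.toLin'_apply] at h1
    rw [← Matrix.mulVec_mulVec, ← Matrix.mulVec_mulVec, hm1, hm1, h1]
  · have h1 : (st q B.1)⁻¹ * (st q A)⁻¹ = (st q A)⁻¹ * (st q B.1)⁻¹ := by
      rw [← Matrix.mul_inv_rev, ← Matrix.mul_inv_rev, ← st_mul hF, ← st_mul hF, B.2.2]
    refine LinearMap.ext fun x => Prod.ext ?_ ?_
    · change Matrix.toLin' B.1 (Matrix.toLin' A x.1) = Matrix.toLin' A (Matrix.toLin' B.1 x.1)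
      rw [← Matrix.toLin'_mul_apply, ← Matrix.toLin'_mul_apply, B.2.2]
    · change Matrix.toLin' (st q B.1)⁻¹ (Matrix.toLin' (st q A)⁻¹ x.2) =
        Matrix.toLin' (st q A)⁻¹ (Matrix.toLin' (st q B.1)⁻¹ x.2)
      rw [← Matrix.toLin'_mul_apply, ← Matrix.toLin'_mul_apply, h1]
  · apply Subtype.ext
    have h2 : (st q (m1 b))⁻¹ = m2 b := Matrix.inv_eq_right_inv (hadj b)
    refine LinearMap.ext fun x => ?_
    have hx : x = (x.1, 0) + (0, x.2) := by simp
    have e1 : b.1 x = b.1 (x.1, 0) + b.1 (0, x.2) := by rw [← map_add, ← hx]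
    refine Prod.ext ?_ ?_
    · have := congrArg Prod.fst e1
      rw [Prod.fst_add, h21, add_zero] at this
      change (Matrix.toLin' (m1 b)) x.1 = _
      rw [Matrix.toLin'_apply, hm1, this]
    · have := congrArg Prod.snd e1
      rw [Prod.snd_add, h12, zero_add] at this
      change (Matrix.toLin' (st q (m1 b))⁻¹) x.2 = _
      rw [h2, Matrix.toLin'_apply, hm2, this]
  · apply Subtype.ext
    refine Matrix.ext_of_mulVec_single fun i => ?_
    exact hm1 _ _

end hyp

end Cfsg.Agent.H794.GUT
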