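import Cfsg.Agent.H152.GUTuple
import Cfsg.Agent.H152.Realize
import Cfsg.Agent.ClassicalGeometry.HermOrthonormal

/-!
# Hermitian spaces, isometries and their centralisers (class data of `GU_n(q)`, S4537, helper794)

* `HF q h` : `h : V → V → F` is a non-degenerate hermitian form (`F`-linear in the first variable, `h y x = h x y ^ q`);
* `exists_std` : every hermitian space is isometric to the standard one;
* `UC h T` : the isometries commuting with `T`; `card_UC_congr`, `card_UC_prod` (coprime case), `card_centralizer_eq`.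
-/

set_option autoImplicit false

open Module Polynomial

namespace Cfsg.Agent.H794.GUT

open Cfsg Cfsg.Agent.H186 Cfsg.Agent.H152 Cfsg.Agent.ClassicalGeometry.GUBasic

universe u v w

/-- hermitian forms -/
structure HF {F : Type u} [Field F] (q : ℕ) {V : Type v} [AddCommGroup V] [Module F V] (h : V → V → F) : Prop where
  add : ∀ x x' y, h (x + x') y = h x y + h x' y
  smul : ∀ (c : F) x y, h (c • x) y = c * h x y
  symm : ∀ x y, h y x = h x y ^ q
  nd : ∀ x, (∀ y, h x y = 0) → x = 0

section

variable {F : Type u} [Field F] [Fintype F] {q : ℕ} {V : Type v} [AddCommGroup V] [Module F V] {h : V → V → F}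

theorem HF.add_right (hF : Fintype.card F = q ^ 2) (hh : HF q h) (x y y' : V) : h x (y + y') = h x y + h x y' := by
  obtain ⟨σ, hσ⟩ := exists_powHom hF
  rw [hh.symm, hh.add, ← hσ, map_add, hσ, hσ, ← hh.symm, ← hh.symm]

omit [Fintype F] in
theorem HF.smul_right (hh : HF q h) (c : F) (x y : V) : h x (c • y) = c ^ q * h x y := by
  rw [hh.symm, hh.smul, mul_pow, ← hh.symm]

omit [Fintype F] in
theorem HF.zero_left (hh : HF q h) (y : V) : h 0 y = 0 := by
  have := hh.smul 0 0 y
  rwa [zero_smul, zero_mul] at this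

theorem q_ne_zero (hF : Fintype.card F = q ^ 2) : q ≠ 0 := by
  have := two_le hF
  omega

theorem HF.zero_right (hF : Fintype.card F = q ^ 2) (hh : HF q h) (x : V) : h x 0 = 0 := by
  rw [hh.symm, hh.zero_left, zero_pow (q_ne_zero hF)]

omit [Fintype F] in
theorem HF.injective (hh : HF q h) {b : End F V} (hb : ∀ x y, h (b x) (b y) = h x y) : Function.Injective b := by
  refine (injective_iff_map_eq_zero b).2 fun x hx => hh.nd x fun y => ?_
  rw [← hb, hx, hh.zero_left]

theorem exists_std (hF : Fintype.card F = q ^ 2) [FiniteDimensional F V] {n : ℕ} (hn : finrank F V = n) (hh : HF q h) :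
    ∃ φ : V ≃ₗ[F] (Fin n → F), ∀ x y, hermForm n F q (φ x) (φ y) = h x y := by
  classical
  obtain ⟨σ, hσ⟩ := exists_powHom hF
  have hσσ : ∀ a, σ (σ a) = a := fun a => by rw [hσ, hσ, pow_pow_q hF]
  have hσ1 : σ ≠ RingHom.id F := by
    obtain ⟨x, hx⟩ := exists_pow_ne hF
    intro h0
    apply hx
    rw [← hσ, h0]
    rfl
  let B : V →ₛₗ[σ] V →ₗ[F] F := LinearMap.mk₂'ₛₗ σ (RingHom.id F) (fun x y => h y x)
    (fun x x' y => hh.add_right hF y x x') (fun c x y => by rw [hh.smul_right, hσ, smul_eq_mul])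
    (fun x y y' => hh.add y y' x) (fun c x y => by rw [hh.smul, smul_eq_mul, RingHom.id_apply])
  have hB : ∀ x y, B x y = h y x := fun x y => rfl
  subst hn
  obtain ⟨b, hb⟩ := Cfsg.Agent.ClassicalGeometry.HermOrthonormal.exists_orthonormal_basis hσ1 hσσ B
    ⟨fun x y => by rw [hB, hB, hσ, ← hh.symm]⟩ (fun x hx => hh.nd x fun y => by
      have h1 := hx y
      rw [hB] at h1
      rw [hh.symm, h1, zero_pow (q_ne_zero hF)])
  refine ⟨b.equivFun, fun x y => ?_⟩
  have key : ∀ x y : V, h x y = ∑ i, b.repr x i * b.repr y i ^ q := by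
    intro x y
    have h1 : ∀ (s : Finset (Fin (finrank F V))) (c : Fin (finrank F V) → F) (y : V),
        h (∑ i ∈ s, c i • b i) y = ∑ i ∈ s, c i * h (b i) y := by
      intro s c y
      induction s using Finset.induction_on with
      | empty => rw [Finset.sum_empty, Finset.sum_empty, hh.zero_left]
      | insert a s ha ih => rw [Finset.sum_insert ha, Finset.sum_insert ha, hh.add, hh.smul, ih]
    have h2 : ∀ i, h (b i) y = b.repr y i ^ q := by
      intro i
      rw [hh.symm y (b i)]
      congr 1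
      conv_lhs => rw [← b.sum_repr y]
      rw [h1, Finset.sum_eq_single i]
      · have := hb i i
        rw [hB, if_pos rfl] at this
        rw [this, mul_one]
      · intro j _ hj
        have := hb i j
        rw [hB, if_neg (Ne.symm hj)] at this
        rw [this, mul_zero]
      · intro h3; exact absurd (Finset.mem_univ _) h3
    conv_lhs => rw [← b.sum_repr x]
    rw [h1]
    exact Finset.sum_congr rfl fun i _ => by rw [h2]
  rw [key x y]
  rfl

omit [Fintype F] in
/-- the isometries commuting with `T` -/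
abbrev UC (h : V → V → F) (T : End F V) : Type v := {b : End F V // b * T = T * b ∧ ∀ x y, h (b x) (b y) = h x y}

variable {V' : Type w} [AddCommGroup V'] [Module F V'] {h' : V' → V' → F}

omit [Fintype F] in
theorem card_UC_congr {T : End F V} {T' : End F V'} (φ : V ≃ₗ[F] V') (hφ : ∀ x y, h' (φ x) (φ y) = h x y)
    (hT : ∀ x, φ (T x) = T' (φ x)) : Nat.card (UC h T) = Nat.card (UC h' T') := by
  have hT' : ∀ x, φ.symm (T' x) = T (φ.symm x) := fun x => by
    rw [LinearEquiv.symm_apply_eq, hT, LinearEquiv.apply_symm_apply]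
  have hφ' : ∀ x y, h (φ.symm x) (φ.symm y) = h' x y := fun x y => by
    rw [← hφ, LinearEquiv.apply_symm_apply, LinearEquiv.apply_symm_apply]
  refine Nat.card_congr
    { toFun := fun b => ⟨φ.toLinearMap ∘ₗ b.1 ∘ₗ φ.symm.toLinearMap, ?_, ?_⟩
      invFun := fun b => ⟨φ.symm.toLinearMap ∘ₗ b.1 ∘ₗ φ.toLinearMap, ?_, ?_⟩
      left_inv := fun b => ?_
      right_inv := fun b => ?_ }
  · ext x
    have h1 : b.1 (T (φ.symm x)) = T (b.1 (φ.symm x)) := LinearMap.congr_fun b.2.1 _
    change φ (b.1 (φ.symm (T' x))) = T' (φ (b.1 (φ.symm x)))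
    rw [hT', h1, hT]
  · intro x y
    change h' (φ (b.1 (φ.symm x))) (φ (b.1 (φ.symm y))) = _
    rw [hφ, b.2.2, hφ']
  · ext x
    have h1 : b.1 (T' (φ x)) = T' (b.1 (φ x)) := LinearMap.congr_fun b.2.1 _
    change φ.symm (b.1 (φ (T x))) = T (φ.symm (b.1 (φ x)))
    rw [hT, h1, hT']
  · intro x y
    change h (φ.symm (b.1 (φ x))) (φ.symm (b.1 (φ y))) = _
    rw [hφ', b.2.2, hφ]
  · apply Subtype.ext
    ext x
    change φ.symm (φ (b.1 (φ.symm (φ x)))) = _
    rw [LinearEquiv.symm_apply_apply, LinearEquiv.symm_apply_apply]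
  · apply Subtype.ext
    ext x
    change φ (φ.symm (b.1 (φ (φ.symm x)))) = _
    rw [LinearEquiv.apply_symm_apply, LinearEquiv.apply_symm_apply]

/-- orthogonal sum -/
def hsum (h : V → V → F) (h' : V' → V' → F) (x y : V × V') : F := h x.1 y.1 + h' x.2 y.2

theorem HF.hsum (hF : Fintype.card F = q ^ 2) (hh : HF q h) (hh' : HF q h') : HF q (hsum h h') where
  add x x' y := by
    simp only [GUT.hsum, Prod.fst_add, Prod.snd_add, hh.add, hh'.add]
    ring
  smul c x y := by
    simp only [GUT.hsum, Prod.smul_fst, Prod.smul_snd, hh.smul, hh'.smul]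
    ring
  symm x y := by
    obtain ⟨σ, hσ⟩ := exists_powHom hF
    simp only [GUT.hsum]
    rw [← hσ, map_add, hσ, hσ, ← hh.symm, ← hh'.symm]
  nd x hx := by
    refine Prod.ext (hh.nd _ fun y => ?_) (hh'.nd _ fun y => ?_)
    · have := hx (y, 0)
      simpa only [GUT.hsum, hh'.zero_right hF, add_zero] using this
    · have := hx (0, y)
      simpa only [GUT.hsum, hh.zero_right hF, zero_add] using this

omit [Fintype F] in
/-- intertwiners of coprime operators vanish -/
theorem intertwine_eq_zero {T : End F V} {T' : End F V'} {P P' : F[X]} (hP : aeval T P = 0) (hP' : aeval T' P' = 0)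
    (hc : IsCoprime P P') (c : V →ₗ[F] V') (hcT : ∀ x, c (T x) = T' (c x)) : c = 0 := by
  obtain ⟨A, B, hAB⟩ := hc
  ext x
  have h1 : c x = c (aeval T (A * P + B * P') x) := by rw [hAB, map_one]; rfl
  rw [h1, aeval_intertwine c hcT, map_add, map_mul, map_mul, hP', mul_zero, add_zero,
    ← map_mul, ← aeval_intertwine c hcT, map_mul, hP, mul_zero]
  simp

theorem card_UC_prod (hh : HF q h) (hh' : HF q h') {T : End F V} {T' : End F V'}
    {P P' : F[X]} (hP : aeval T P = 0) (hP' : aeval T' P' = 0) (hc : IsCoprime P P') :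
    Nat.card (UC (hsum h h') (T.prodMap T')) = Nat.card (UC h T) * Nat.card (UC h' T') := by
  rw [← Nat.card_prod]
  have hcomm : ∀ b : UC (hsum h h') (T.prodMap T'), ∀ x, b.1 (T x.1, T' x.2) = (T (b.1 x).1, T' (b.1 x).2) :=
    fun b x => LinearMap.congr_fun b.2.1 x
  have h12 : ∀ (b : UC (hsum h h') (T.prodMap T')) (x : V), (b.1 (x, 0)).2 = 0 := by
    intro b x
    have h0 := intertwine_eq_zero hP hP' hc (LinearMap.snd F V V' ∘ₗ b.1 ∘ₗ LinearMap.inl F V V') (fun x => by
      have := congrArg Prod.snd (hcomm b (x, 0))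
      simpa using this)
    exact LinearMap.congr_fun h0 x
  have h21 : ∀ (b : UC (hsum h h') (T.prodMap T')) (x : V'), (b.1 (0, x)).1 = 0 := by
    intro b x
    have h0 := intertwine_eq_zero hP' hP hc.symm (LinearMap.fst F V V' ∘ₗ b.1 ∘ₗ LinearMap.inr F V V') (fun x => by
      have := congrArg Prod.fst (hcomm b (0, x))
      simpa using this)
    exact LinearMap.congr_fun h0 x
  refine Nat.card_congr
    { toFun := fun b => (⟨LinearMap.fst F V V' ∘ₗ b.1 ∘ₗ LinearMap.inl F V V', ?_, ?_⟩,
        ⟨LinearMap.snd F V V' ∘ₗ b.1 ∘ₗ LinearMap.inr F V V', ?_, ?_⟩)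
      invFun := fun c => ⟨c.1.1.prodMap c.2.1, ?_, ?_⟩
      left_inv := fun b => ?_
      right_inv := fun c => ?_ }
  · ext x
    have := congrArg Prod.fst (hcomm b (x, 0))
    simpa using this
  · intro x y
    have h1 := b.2.2 (x, 0) (y, 0)
    simp only [GUT.hsum, h12, hh'.zero_left, add_zero] at h1
    exact h1
  · ext x
    have := congrArg Prod.snd (hcomm b (0, x))
    simpa using this
  · intro x y
    have h1 := b.2.2 (0, x) (0, y)
    simp only [GUT.hsum, h21, hh.zero_left, zero_add] at h1
    exact h1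
  · have e1 := c.1.2.1
    have e2 := c.2.2.1
    refine LinearMap.ext fun x => Prod.ext ?_ ?_
    · exact LinearMap.congr_fun e1 x.1
    · exact LinearMap.congr_fun e2 x.2
  · intro x y
    exact congrArg₂ (· + ·) (c.1.2.2 x.1 y.1) (c.2.2.2 x.2 y.2)
  · apply Subtype.ext
    refine LinearMap.ext fun x => ?_
    have hx : x = (x.1, 0) + (0, x.2) := by simp
    have e1 : b.1 x = b.1 (x.1, 0) + b.1 (0, x.2) := by rw [← map_add, ← hx]
    refine Prod.ext ?_ ?_
    · have := congrArg Prod.fst e1
      rw [Prod.fst_add, h21, add_zero] at this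
      exact this.symm
    · have := congrArg Prod.snd e1
      rw [Prod.snd_add, h12, zero_add] at this
      exact this.symm
  · refine Prod.ext (Subtype.ext (LinearMap.ext fun x => ?_)) (Subtype.ext (LinearMap.ext fun x => ?_))
    · rfl
    · rfl

end

section std

variable {F : Type u} [Field F] [Fintype F] {q n : ℕ}

theorem hf_std (hF : Fintype.card F = q ^ 2) (n : ℕ) : HF q (hermForm n F q) where
  add x x' y := by
    rw [hermForm, hermForm, hermForm, ← Finset.sum_add_distrib]
    exact Finset.sum_congr rfl fun i _ => by rw [Pi.add_apply, add_mul]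
  smul c x y := by
    rw [hermForm, hermForm, Finset.mul_sum]
    exact Finset.sum_congr rfl fun i _ => by rw [Pi.smul_apply, smul_eq_mul, mul_assoc]
  symm x y := by
    obtain ⟨σ, hσ⟩ := exists_powHom hF
    rw [hermForm, hermForm, ← hσ, map_sum]
    exact Finset.sum_congr rfl fun i _ => by rw [map_mul, hσ, hσ, pow_pow_q hF, mul_comm]
  nd x hx := by
    classical
    funext i
    have h1 := hx (Pi.single i 1)
    rw [hermForm, Finset.sum_eq_single i] at h1
    · rwa [Pi.single_eq_same, one_pow, mul_one] at h1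
    · intro j _ hj
      rw [Pi.single_eq_of_ne hj, zero_pow (q_ne_zero hF), mul_zero]
    · intro h2; exact absurd (Finset.mem_univ _) h2

/-- the adjoint -/
theorem hermForm_mulVec (hF : Fintype.card F = q ^ 2) (A : Matrix (Fin n) (Fin n) F) (x y : Fin n → F) :
    hermForm n F q (A.mulVec x) y = hermForm n F q x ((st q A).mulVec y) := by
  obtain ⟨σ, hσ⟩ := exists_powHom hF
  simp only [hermForm, Matrix.mulVec, dotProduct]
  simp only [← hσ, map_sum, map_mul, st_apply]
  simp only [hσ, pow_pow_q hF, Finset.sum_mul, Finset.mul_sum]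
  rw [Finset.sum_comm]
  exact Finset.sum_congr rfl fun i _ => Finset.sum_congr rfl fun j _ => by ring

theorem isom_iff_st (hF : Fintype.card F = q ^ 2) (A : Matrix (Fin n) (Fin n) F) :
    (∀ x y, hermForm n F q (A.mulVec x) (A.mulVec y) = hermForm n F q x y) ↔ st q A * A = 1 := by
  constructor
  · intro h0
    have hh := hf_std (q := q) hF n
    have h1 : ∀ y, (st q A * A).mulVec y = y := by
      intro y
      rw [← sub_eq_zero]
      refine hh.nd _ fun x => ?_
      rw [hh.symm x]
      have e1 : hermForm n F q x ((st q A * A).mulVec y) = hermForm n F q x y := by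
        rw [← Matrix.mulVec_mulVec, ← hermForm_mulVec hF, h0]
      have e2 : hermForm n F q x ((st q A * A).mulVec y - y) = 0 := by
        have e3 := hh.add_right hF x ((st q A * A).mulVec y - y) y
        rw [sub_add_cancel, e1] at e3
        exact left_eq_add.1 (e3.trans (add_comm _ _)) 
      rw [e2, zero_pow (q_ne_zero hF)]
    exact Matrix.ext_of_mulVec_single fun i => by rw [h1, Matrix.one_mulVec]
  · intro h0 x y
    rw [hermForm_mulVec hF, Matrix.mulVec_mulVec, h0, Matrix.one_mulVec]

/-- the centraliser in `GU n F q` -/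
theorem card_centralizer_eq (hF : Fintype.card F = q ^ 2) (g : GU n F q) :
    Nat.card ↥(Subgroup.centralizer ({g} : Set (GU n F q))) =
      Nat.card (UC (hermForm n F q) (Matrix.toLin' ((g : GL (Fin n) F) : Matrix (Fin n) (Fin n) F))) := by
  set G : Matrix (Fin n) (Fin n) F := ((g : GL (Fin n) F) : Matrix (Fin n) (Fin n) F) with hG
  have key : ∀ b : UC (hermForm n F q) (Matrix.toLin' G), st q (LinearMap.toMatrix' b.1) * LinearMap.toMatrix' b.1 = 1 := by
    intro b
    rw [← isom_iff_st hF]
    intro x y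
    rw [LinearMap.toMatrix'_mulVec, LinearMap.toMatrix'_mulVec]
    exact b.2.2 x y
  refine Nat.card_congr
    { toFun := fun c => ⟨Matrix.toLin' (((c : GU n F q) : GL (Fin n) F) : Matrix (Fin n) (Fin n) F), ?_, ?_⟩
      invFun := fun b => ⟨⟨⟨LinearMap.toMatrix' b.1, st q (LinearMap.toMatrix' b.1),
        mul_eq_one_comm.1 (key b), key b⟩, (mem_GU_iff_st hF _).2 (key b)⟩, ?_⟩
      left_inv := fun c => ?_
      right_inv := fun b => ?_ }
  · have h1 := congrArg (fun g : GU n F q => ((g : GL (Fin n) F) : Matrix (Fin n) (Fin n) F))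
      (Subgroup.mem_centralizer_singleton_iff.1 c.2)
    change Matrix.toLin' _ ∘ₗ Matrix.toLin' _ = Matrix.toLin' _ ∘ₗ Matrix.toLin' _
    rw [← Matrix.toLin'_mul, ← Matrix.toLin'_mul]
    exact congrArg Matrix.toLin' h1
  · intro x y
    rw [Matrix.toLin'_apply, Matrix.toLin'_apply]
    exact (isom_iff_st hF _).2 ((mem_GU_iff_st hF _).1 (c : GU n F q).2) x y
  · rw [Subgroup.mem_centralizer_singleton_iff]
    apply Subtype.ext
    apply Units.ext
    change LinearMap.toMatrix' b.1 * G = G * LinearMap.toMatrix' b.1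
    have h1 : b.1 ∘ₗ Matrix.toLin' G = Matrix.toLin' G ∘ₗ b.1 := b.2.1
    have h2 := congrArg LinearMap.toMatrix' h1
    rwa [LinearMap.toMatrix'_comp, LinearMap.toMatrix'_comp, LinearMap.toMatrix'_toLin'] at h2
  · apply Subtype.ext
    apply Subtype.ext
    apply Units.ext
    change LinearMap.toMatrix' (Matrix.toLin' _) = _
    rw [LinearMap.toMatrix'_toLin']
  · apply Subtype.ext
    change Matrix.toLin' (LinearMap.toMatrix' b.1) = b.1
    rw [Matrix.toLin'_toMatrix']

end std

end Cfsg.Agent.H794.GUT
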