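import Cfsg.Agent.H794.GUT.Models

/-!
# The conjugacy classes of `GU_n(q)` (S4537, helper794)

`F` a field with `q ^ 2` elements, `E` an algebraic closure of `F`, `I = OI E hF` the set of orbits of `x ↦ x ^ (-q)` on
the multiplicative group of `E`, `OI.d i` the size of the orbit `i`.
* `tyF hF T : Ty I` : the type of an endomorphism; `tyF_mk` (isometries), `tdeg_tyF`;
* `typeData hF n : TypeData OI.d (-q) (GU n F q) n`.
-/

set_option autoImplicit false

open Module Polynomial

namespace Cfsg.Agent.H794.GUT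

open Cfsg Cfsg.Agent.H186 Cfsg.Agent.H152 Cfsg.Agent.H615.GU Cfsg.Agent.H174 Cfsg.Agent.ClassicalGeometry.GUBasic

universe u v w

section types

variable {F : Type u} [Field F] [Fintype F] {E : Type v} [Field E] [Algebra F E] [Algebra.IsAlgebraic F E] {q : ℕ}
  {V : Type w} [AddCommGroup V] [Module F V] [FiniteDimensional F V]

/-- the matrix of an isometry -/
theorem exists_matrix (hF : Fintype.card F = q ^ 2) {h : V → V → F} (hh : HF q h) {T : End F V}
    (hT : ∀ x y, h (T x) (T y) = h x y) {n : ℕ} (hn : finrank F V = n) :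
    ∃ (φ : V ≃ₗ[F] (Fin n → F)) (A : Matrix (Fin n) (Fin n) F), st q A * A = 1 ∧
      (∀ x y, hermForm n F q (φ x) (φ y) = h x y) ∧ ∀ x, φ (T x) = Matrix.toLin' A (φ x) := by
  obtain ⟨φ, hφ⟩ := exists_std hF hn hh
  refine ⟨φ, LinearMap.toMatrix' (φ.toLinearMap ∘ₗ T ∘ₗ φ.symm.toLinearMap), ?_, hφ, fun x => ?_⟩
  · rw [← isom_iff_st hF]
    intro x y
    rw [LinearMap.toMatrix'_mulVec, LinearMap.toMatrix'_mulVec]
    change hermForm n F q (φ (T (φ.symm x))) (φ (T (φ.symm y))) = _
    rw [hφ, hT, ← hφ, φ.apply_symm_apply, φ.apply_symm_apply]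
  · rw [Matrix.toLin'_toMatrix']
    change _ = φ (T (φ.symm (φ x)))
    rw [φ.symm_apply_apply]

theorem col_Phi (hF : Fintype.card F = q ^ 2) {h : V → V → F} (hh : HF q h) {T : End F V}
    (hT : ∀ x y, h (T x) (T y) = h x y) (x : Eˣ) : col T (mp F (Phi q x)) = col T (mp F x) := by
  obtain ⟨σ, hσ⟩ := exists_powHom hF
  obtain ⟨φ, A, hA, hφ, hφT⟩ := exists_matrix hF hh hT rfl
  rw [col_congr φ hφT, col_congr φ hφT]
  refine col_eq_of_kd ?_ (mp_monic _) (mp_irr _) (mp_monic _) (mp_irr _) fun j => ?_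
  · rw [mp_Phi hF σ hσ, til_natDegree σ (mp_coeff_zero x)]
  · rw [mp_Phi hF σ hσ]
    exact finrank_til hF σ hσ A hA _ (mp_coeff_zero x) j

theorem col_orbit (hF : Fintype.card F = q ^ 2) {h : V → V → F} (hh : HF q h) {T : End F V}
    (hT : ∀ x y, h (T x) (T y) = h x y) {x y : Eˣ} (hxy : OI.mk hF x = OI.mk hF y) :
    col T (mp F y) = col T (mp F x) := by
  rcases mp_of_mk_eq hF hxy with h1 | h1
  · rw [h1]
  · rw [h1, col_Phi hF hh hT]

theorem rep_injective (hF : Fintype.card F = q ^ 2) : Function.Injective fun i : OI E hF => mp F i.rep := by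
  intro i j hij
  rw [← i.mk_rep, ← j.mk_rep]
  exact OI.mk_of_mp hF hij

theorem finite_col (T : End F V) : {φ : F[X] | φ.Monic ∧ Irreducible φ ∧ col T φ ≠ 0}.Finite := by
  classical
  obtain ⟨d, p, e, v, hd⟩ := exists_dec T
  refine (Set.finite_range p).subset ?_
  rintro φ ⟨hφ, hirr, hc⟩
  by_contra hcon
  apply hc
  ext j
  rw [col_apply T hφ hirr, cf_of_dec hd hφ hirr, Col.zero_apply, Finset.card_eq_zero, Finset.filter_false_of_mem]
  rintro k - ⟨hk, -⟩
  exact hcon ⟨k, hk⟩

/-- the type of an endomorphism -/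
noncomputable def tyF (hF : Fintype.card F = q ^ 2) (T : End F V) : Ty (OI E hF) :=
  Finsupp.ofSupportFinite (fun i => col T (mp F i.rep)) (by
    refine Set.Finite.of_finite_image (f := fun i : OI E hF => mp F i.rep) ?_ (rep_injective hF).injOn
    refine (finite_col T).subset ?_
    rintro _ ⟨i, hi, rfl⟩
    exact ⟨mp_monic _, mp_irr _, hi⟩)

theorem tyF_apply (hF : Fintype.card F = q ^ 2) (T : End F V) (i : OI E hF) : tyF hF T i = col T (mp F i.rep) := rfl

theorem tyF_mk (hF : Fintype.card F = q ^ 2) {h : V → V → F} (hh : HF q h) {T : End F V}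
    (hT : ∀ x y, h (T x) (T y) = h x y) (x : Eˣ) : tyF hF T (OI.mk hF x) = col T (mp F x) := by
  rw [tyF_apply]
  exact col_orbit hF hh hT (OI.mk_rep _).symm

theorem tyF_congr {V' : Type*} [AddCommGroup V'] [Module F V'] [FiniteDimensional F V'] (hF : Fintype.card F = q ^ 2)
    {T : End F V} {T' : End F V'} (φ : V ≃ₗ[F] V') (hφ : ∀ x, φ (T x) = T' (φ x)) :
    (tyF hF T : Ty (OI E hF)) = tyF hF T' := by
  ext1 i
  rw [tyF_apply, tyF_apply, col_congr φ hφ]

omit [Fintype F] [FiniteDimensional F V] in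
theorem eq_X_of_coeff {φ : F[X]} (hφ : φ.Monic) (hirr : Irreducible φ) (h0 : φ.coeff 0 = 0) : φ = X :=
  (eq_of_monic_of_associated monic_X hφ (irreducible_X.associated_of_dvd hirr (X_dvd_iff.2 h0))).symm

omit [Fintype F] [Algebra.IsAlgebraic F E] in
theorem exists_root [IsAlgClosed E] {φ : F[X]} (hφ : φ.Monic) (hirr : Irreducible φ) (h0 : φ.coeff 0 ≠ 0) :
    ∃ x : Eˣ, mp F x = φ := by
  obtain ⟨x, hx⟩ := IsAlgClosed.exists_aeval_eq_zero E φ (by
    rw [degree_eq_natDegree hφ.ne_zero]
    exact_mod_cast hirr.natDegree_pos.ne')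
  have hx0 : x ≠ 0 := by
    rintro rfl
    apply h0
    rw [← coeff_zero_eq_aeval_zero'] at hx
    exact (algebraMap F E).injective (hx.trans (map_zero _).symm)
  exact ⟨Units.mk0 x hx0, mp_eq_of_root hφ hirr hx⟩

/-- the classes of elements with the same minimal polynomial -/
theorem ncard_mp (x : Eˣ) : {y : Eˣ | mp F y = mp F x}.ncard = (mp F x).natDegree := by
  have h1 : {y : Eˣ | mp F y = mp F x} = (fun k => x ^ Fintype.card F ^ k) '' (Set.Iio (mp F x).natDegree) := by
    ext y
    constructor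
    · intro h
      obtain ⟨k, rfl⟩ := mp_eq_iff.1 (Eq.symm h)
      refine ⟨k % (mp F x).natDegree, Nat.mod_lt _ (mp_irr x).natDegree_pos, ?_⟩
      change x ^ Fintype.card F ^ (k % _) = x ^ Fintype.card F ^ k
      conv_rhs => rw [← Nat.mod_add_div k (mp F x).natDegree, add_comm, pow_add, pow_mul,
        (pow_eq_iff x _).2 (dvd_mul_right _ _)]
    · rintro ⟨k, _, rfl⟩
      exact mp_pow x k
  have h2 : Set.InjOn (fun k => x ^ Fintype.card F ^ k) (Set.Iio (mp F x).natDegree) := by
    have key : ∀ i j, i < (mp F x).natDegree → j < (mp F x).natDegree → i < j →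
        x ^ Fintype.card F ^ i ≠ x ^ Fintype.card F ^ j := by
      intro i j _ hj hij heq
      obtain ⟨c, rfl⟩ := Nat.exists_eq_add_of_lt hij
      have h1 : x ^ Fintype.card F ^ (c + 1) = x := by
        apply Units.ext
        have h2 : (fr F E ^ i) ((x ^ Fintype.card F ^ (c + 1) : Eˣ) : E) = (fr F E ^ i) (x : E) := by
          rw [fr_pow, fr_pow, ← Units.val_pow_eq_pow_val, ← Units.val_pow_eq_pow_val, heq, ← pow_mul, ← pow_add]
          congr 2
          congr 1
          omega
        exact (fr F E ^ i).injective h2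
      have h3 := deg_le_of_pow (Nat.succ_pos c) h1
      omega
    intro i hi j hj hij
    rcases lt_trichotomy i j with h1 | h1 | h1
    · exact absurd hij (key i j hi hj h1)
    · exact h1
    · exact absurd hij.symm (key j i hj hi h1)
  rw [h1, h2.ncard_image, Set.ncard_Iio_nat]

theorem isom_injective {h : V → V → F} (hh : HF q h) {T : End F V} (hT : ∀ x y, h (T x) (T y) = h x y) :
    Function.Injective T := hh.injective hT

/-- the degree formula -/
theorem tdeg_tyF [IsAlgClosed E] (hF : Fintype.card F = q ^ 2) {h : V → V → F} (hh : HF q h) {T : End F V}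
    (hT : ∀ x y, h (T x) (T y) = h x y) : tdeg OI.d (tyF hF T : Ty (OI E hF)) = finrank F V := by
  classical
  obtain ⟨D, p, e, v, hd⟩ := exists_dec T
  have hp0 : ∀ k, (p k).coeff 0 ≠ 0 := fun k => IsDec.coeff_zero_ne hd (isom_injective hh hT) k
  choose r hr using fun k => exists_root (E := E) (hd.monic k) (hd.irr k) (hp0 k)
  -- all eigenvalues
  have hfin : ∀ x : Eˣ, {y : Eˣ | mp F y = mp F x}.Finite := fun x =>
    Set.finite_of_ncard_pos (by rw [ncard_mp]; exact (mp_irr x).natDegree_pos)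
  have hSfin : {y : Eˣ | ∃ k, mp F y = p k}.Finite := by
    have : {y : Eˣ | ∃ k, mp F y = p k} = ⋃ k, {y : Eˣ | mp F y = mp F (r k)} := by
      ext y
      simp only [Set.mem_iUnion]
      exact ⟨fun ⟨k, hk⟩ => ⟨k, by change _ = _; rw [hr]; exact hk⟩,
        fun ⟨k, hk⟩ => ⟨k, by have h1 : mp F y = _ := hk; rw [hr] at h1; exact h1⟩⟩
    rw [this]
    exact Set.finite_iUnion fun k => hfin _
  let S : Finset Eˣ := hSfin.toFinset
  have hS : ∀ y, y ∈ S ↔ ∃ k, mp F y = p k := fun y => hSfin.mem_toFinset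
  have hsize : ∀ y : Eˣ, (tyF hF T (OI.mk hF y)).size = ∑ k, if p k = mp F y then e k else 0 := by
    intro y
    rw [tyF_mk hF hh hT, size_col_of_dec hd (mp_monic y) (mp_irr y)]
  have hne : ∀ y : Eˣ, tyF hF T (OI.mk hF y) ≠ 0 → y ∈ S := by
    intro y hy
    rw [hS]
    by_contra hcon
    push Not at hcon
    apply hy
    rw [tyF_mk hF hh hT]
    ext j
    rw [col_apply T (mp_monic y) (mp_irr y), cf_of_dec hd (mp_monic y) (mp_irr y), Col.zero_apply,
      Finset.card_eq_zero, Finset.filter_false_of_mem]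
    rintro k - ⟨hk, -⟩
    exact hcon k hk.symm
  have hne' : ∀ y ∈ S, tyF hF T (OI.mk hF y) ≠ 0 := by
    intro y hy h0
    obtain ⟨k, hk⟩ := (hS y).1 hy
    have h1 := hsize y
    rw [h0, Col.size_zero] at h1
    have h2 := (Finset.sum_eq_zero_iff.1 h1.symm) k (Finset.mem_univ k)
    rw [if_pos hk.symm] at h2
    exact (hd.pos k).ne' h2
  -- first count
  have hA : ∑ y ∈ S, (tyF hF T (OI.mk hF y)).size = finrank F V := by
    simp_rw [hsize]
    rw [Finset.sum_comm, hd.cyc.finrank_eq (fun i => pow_ne_zero _ (hd.irr i).ne_zero)]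
    refine Finset.sum_congr rfl fun k _ => ?_
    rw [← Finset.sum_filter, Finset.sum_const, smul_eq_mul, (hd.monic k).natDegree_pow, mul_comm]
    congr 1
    have h1 := ncard_mp (F := F) (r k)
    rw [hr] at h1
    rw [← h1, ← Set.ncard_coe_finset]
    congr 1
    ext y
    rw [Finset.coe_filter]
    exact ⟨fun h => h.2.symm, fun h => ⟨(hS y).2 ⟨k, h⟩, Eq.symm h⟩⟩
  -- second count
  rw [← hA, tdeg, Finsupp.sum, ← Finset.sum_fiberwise_of_maps_to (s := S) (t := (tyF hF T : Ty (OI E hF)).support)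
    (g := fun y => OI.mk hF y) (fun y hy => Finsupp.mem_support_iff.2 (hne' y hy))]
  refine Finset.sum_congr rfl fun i hi => ?_
  rw [Finset.sum_congr rfl (fun y hy => by rw [(Finset.mem_filter.1 hy).2]), Finset.sum_const, smul_eq_mul]
  congr 1
  have h1 := OI.ncard_eq hF i.rep
  rw [i.mk_rep] at h1
  rw [OI.d, ← h1, ← Set.ncard_coe_finset]
  congr 1
  ext y
  rw [Finset.coe_filter]
  refine ⟨fun h => ⟨hne y ?_, h⟩, fun h => h.2⟩
  have h2 : OI.mk hF y = i := h
  rw [h2]
  exact Finsupp.mem_support_iff.1 hi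

end types

/-! ### realisation of all types -/

section real

variable {F : Type u} [Field F] [Fintype F] {E : Type v} [Field E] [Algebra F E] [Algebra.IsAlgebraic F E] {q : ℕ}

/-- a type is realised by a unitary matrix with centraliser of the right order -/
def Real (hF : Fintype.card F = q ^ 2) (lam : Ty (OI E hF)) : Prop :=
  ∃ (n : ℕ) (A : Matrix (Fin n) (Fin n) F), st q A * A = 1 ∧ tyF hF (Matrix.toLin' A) = lam ∧
    (Nat.card (UC (hermForm n F q) (Matrix.toLin' A)) : ℂ) = (-1) ^ n * Ag OI.d (-(q : ℤ)) lam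

theorem real_of (hF : Fintype.card F = q ^ 2) {V : Type w} [AddCommGroup V] [Module F V] [FiniteDimensional F V]
    {h : V → V → F} (hh : HF q h) {T : End F V} (hT : ∀ x y, h (T x) (T y) = h x y) {lam : Ty (OI E hF)}
    (hlam : tyF hF T = lam) (hcard : (Nat.card (UC h T) : ℂ) = (-1) ^ finrank F V * Ag OI.d (-(q : ℤ)) lam) :
    Real hF lam := by
  obtain ⟨φ, A, hA, hφ, hφT⟩ := exists_matrix hF hh hT rfl
  refine ⟨_, A, hA, ?_, ?_⟩
  · rw [← tyF_congr hF φ hφT, hlam]
  · rw [← card_UC_congr φ hφ hφT, hcard]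

theorem Ag_single {I : Type*} [DecidableEq I] (d : I → ℕ) (Q : ℤ) (i : I) {l : Col} (hl : l ≠ 0) :
    Ag d Q (Finsupp.single i l) = ev ((Q : ℂ) ^ d i) (ap l) := by
  rw [Ag, Finsupp.support_single i hl, Finset.prod_singleton, Finsupp.single_eq_same]

variable [IsAlgClosed E]

/-- realisation of the types with one orbit -/
theorem exists_single (hF : Fintype.card F = q ^ 2) (i : OI E hF) {l : Col} (hl : l ≠ 0) :
    Real hF (Finsupp.single i l) := by
  classical
  obtain ⟨σ, hσ⟩ := exists_powHom hF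
  obtain ⟨x, hx⟩ : ∃ x, x = i.rep := ⟨_, rfl⟩
  have hint := mp_int (F := F) x
  have hfd : FiniteDimensional F (IntermediateField.adjoin F {(x : E)}) := IntermediateField.adjoin.finiteDimensional hint
  have hKfin : Finite (IntermediateField.adjoin F {(x : E)}) := Module.finite_of_finite F
  have hKft : Fintype (IntermediateField.adjoin F {(x : E)}) := Fintype.ofFinite _
  have hcardK : Fintype.card (IntermediateField.adjoin F {(x : E)}) = Fintype.card F ^ (mp F x).natDegree := by
    rw [Module.card_eq_pow_finrank (K := F), IntermediateField.adjoin.finrank hint]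
    rfl
  have hfinK : finrank F (IntermediateField.adjoin F {(x : E)}) = (mp F x).natDegree :=
    IntermediateField.adjoin.finrank hint
  have hmin : minpoly F (IntermediateField.AdjoinSimple.gen F (x : E)) = mp F x := IntermediateField.minpoly_gen F (x : E)
  have hgen : Algebra.adjoin F {IntermediateField.AdjoinSimple.gen F (x : E)} = ⊤ := by
    have h1 := (IntermediateField.adjoin.powerBasis hint).adjoin_gen_eq_top
    rwa [IntermediateField.adjoin.powerBasis_gen] at h1
  have hθ0 : IntermediateField.AdjoinSimple.gen F (x : E) ≠ 0 := by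
    intro h0
    have h1 := congrArg (algebraMap (IntermediateField.adjoin F {(x : E)}) E) h0
    rw [IntermediateField.AdjoinSimple.algebraMap_gen, map_zero] at h1
    exact x.ne_zero h1
  have hid : i.d = dd q x := by rw [OI.d, hx]
  have hmk : OI.mk hF x = i := by rw [hx, i.mk_rep]
  have hsize : finrank F (Fin l.size → IntermediateField.adjoin F {(x : E)}) = (mp F x).natDegree * l.size := by
    rw [← hfinK, ← finrank_mul_finrank F (IntermediateField.adjoin F {(x : E)})
      (Fin l.size → IntermediateField.adjoin F {(x : E)}), finrank_fintype_fun_eq_card, Fintype.card_fin]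
  rcases dd_cases hF x with ⟨hodd, hdeg⟩ | ⟨heven, hdeg⟩
  · have hθ : (IntermediateField.AdjoinSimple.gen F (x : E)) ^ (q ^ dd q x + 1) = 1 := by
      apply (algebraMap (IntermediateField.adjoin F {(x : E)}) E).injective
      rw [map_pow, IntermediateField.AdjoinSimple.algebraMap_gen, map_one, ← Units.val_pow_eq_pow_val,
        pow_odd_eq hF x hodd, Units.val_one]
    obtain ⟨h, T, hh, hT, hcol, hcard⟩ := odd_model hF hodd (by rw [hcardK, hF, hdeg, ← pow_mul, ← pow_mul, mul_comm])
      hθ hgen (by rw [hfinK, hmin]) l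
    refine real_of hF hh hT ?_ ?_
    · ext1 j
      rw [tyF_apply]
      by_cases hj : j = i
      · subst hj
        rw [Finsupp.single_eq_same, ← hx]
        exact (hcol _ (mp_monic x) (mp_irr x)).1 hmin.symm
      · rw [Finsupp.single_eq_of_ne hj]
        refine (hcol _ (mp_monic _) (mp_irr _)).2 fun h1 => hj ?_
        rw [hmin] at h1
        rw [← j.mk_rep, ← hmk]
        exact OI.mk_of_mp hF h1
    · rw [hcard, Ag_single _ _ _ hl, hsize, hdeg, hid]
      push_cast
      rw [hodd.neg_pow, pow_mul, hodd.neg_one_pow]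
  · have htil : til σ (mp F x) ≠ mp F x := by
      rw [← mp_Phi hF σ hσ, Ne, mp_Phi_eq_iff hF]
      exact Nat.not_odd_iff_even.2 heven
    obtain ⟨N, T, hN, hT, hcol, hcol0, hcard⟩ := even_model hF σ hσ hθ0 hgen (by rw [hfinK, hmin])
      (by rw [hmin]; exact htil) l
    have hh := hf_hyp (q := q) hF N
    rw [hmin] at hcol hcol0
    refine real_of hF hh hT ?_ ?_
    · ext1 j
      by_cases hj : j = i
      · subst hj
        rw [Finsupp.single_eq_same, ← hmk, tyF_mk hF hh hT, hcol]
      · rw [Finsupp.single_eq_of_ne hj, tyF_apply]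
        refine hcol0 _ (mp_monic _) (mp_irr _) (mp_coeff_zero _) (fun h1 => hj ?_) (fun h1 => hj ?_)
        · rw [← j.mk_rep, ← hmk]
          exact OI.mk_of_mp hF h1
        · rw [← mp_Phi hF σ hσ] at h1
          rw [← j.mk_rep, ← hmk, ← OI.mk_Phi hF j.rep]
          exact OI.mk_of_mp hF h1
    · rw [hcard, Ag_single _ _ _ hl, hid, finrank_prod, finrank_fintype_fun_eq_card, Fintype.card_fin, hcardK, hF,
        ← pow_mul, hdeg, ← two_mul, pow_mul, neg_one_sq, one_pow, one_mul]
      push_cast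
      rw [heven.neg_pow]

theorem real_zero (hF : Fintype.card F = q ^ 2) : Real hF (0 : Ty (OI E hF)) := by
  have hh : HF q (hermForm 0 F q) := hf_std hF 0
  refine real_of hF hh (T := 0) (fun x y => by simp [hermForm]) ?_ ?_
  · ext1 i
    rw [tyF_apply, Finsupp.coe_zero, Pi.zero_apply, kd_zero_iff _ (mp_monic _) (mp_irr _), kd]
    exact finrank_zero_of_subsingleton
  · rw [finrank_zero_of_subsingleton, pow_zero, one_mul, Ag, Finsupp.support_zero, Finset.prod_empty]
    have : Unique (UC (hermForm 0 F q) (0 : End F (Fin 0 → F))) :=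
      { default := ⟨0, by simp, fun x y => by simp [hermForm]⟩
        uniq := fun a => Subtype.ext (Subsingleton.elim _ _) }
    rw [Nat.card_unique]
    norm_num

theorem real_add (hF : Fintype.card F = q ^ 2) {i : OI E hF} {lam : Ty (OI E hF)} (hi : lam i ≠ 0)
    (h2 : Real hF (lam.erase i)) : Real hF lam := by
  classical
  obtain ⟨n, A, hA, hAt, hAc⟩ := exists_single hF i hi
  obtain ⟨m, B, hB, hBt, hBc⟩ := h2
  have hhA := hf_std (q := q) hF n
  have hhB := hf_std (q := q) hF m
  have hAi : ∀ x y, hermForm n F q (Matrix.toLin' A x) (Matrix.toLin' A y) = hermForm n F q x y := fun x y => by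
    rw [Matrix.toLin'_apply, Matrix.toLin'_apply]; exact (isom_iff_st hF A).2 hA x y
  have hBi : ∀ x y, hermForm m F q (Matrix.toLin' B x) (Matrix.toLin' B y) = hermForm m F q x y := fun x y => by
    rw [Matrix.toLin'_apply, Matrix.toLin'_apply]; exact (isom_iff_st hF B).2 hB x y
  have hcop := exists_coprime (Matrix.toLin' A) (Matrix.toLin' B) (fun φ hφ hirr => by
    by_cases h0 : φ.coeff 0 = 0
    · left
      rw [eq_X_of_coeff hφ hirr h0]
      exact col_X (isom_injective hhA hAi)
    · obtain ⟨x, rfl⟩ := exists_root (E := E) hφ hirr h0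
      rw [← tyF_mk hF hhA hAi, ← tyF_mk hF hhB hBi, hAt, hBt]
      by_cases hx : OI.mk hF x = i
      · right
        rw [hx, Finsupp.erase_same]
      · left
        rw [Finsupp.single_eq_of_ne hx])
  refine real_of hF (hhA.hsum hF hhB) (T := (Matrix.toLin' A).prodMap (Matrix.toLin' B)) ?_ ?_ ?_
  · intro x y
    exact congrArg₂ (· + ·) (hAi x.1 y.1) (hBi x.2 y.2)
  · ext1 j
    ext k
    rw [tyF_apply, col_apply _ (mp_monic _) (mp_irr _), cf_prod _ _ (mp_monic _) (mp_irr _),
      ← col_apply _ (mp_monic _) (mp_irr _), ← col_apply _ (mp_monic _) (mp_irr _), ← tyF_apply hF, ← tyF_apply hF,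
      hAt, hBt]
    by_cases hj : j = i
    · subst hj
      rw [Finsupp.single_eq_same, Finsupp.erase_same, Col.zero_apply, add_zero]
    · rw [Finsupp.single_eq_of_ne hj, Finsupp.erase_ne hj, Col.zero_apply, zero_add]
  · rw [card_UC_prod hhA hhB (minpoly.aeval _ _) (minpoly.aeval _ _) hcop, Nat.cast_mul, hAc, hBc, finrank_prod,
      finrank_fintype_fun_eq_card, finrank_fintype_fun_eq_card, Fintype.card_fin, Fintype.card_fin, pow_add,
      Ag_single _ _ _ hi]
    have hAg : Ag OI.d (-(q : ℤ)) lam = ev (((-(q : ℤ) : ℤ) : ℂ) ^ i.d) (ap (lam i)) * Ag OI.d (-(q : ℤ)) (lam.erase i) := by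
      rw [Ag, Ag, ← Finset.mul_prod_erase lam.support _ (Finsupp.mem_support_iff.2 hi), Finsupp.support_erase]
      congr 1
      refine Finset.prod_congr rfl fun j hj => ?_
      rw [Finsupp.erase_ne (Finset.ne_of_mem_erase hj)]
    rw [hAg]
    ring

theorem real_all (hF : Fintype.card F = q ^ 2) (lam : Ty (OI E hF)) : Real hF lam := by
  classical
  obtain ⟨N, hN⟩ : ∃ N, lam.support.card = N := ⟨_, rfl⟩
  induction N generalizing lam with
  | zero =>
    rw [Finset.card_eq_zero, Finsupp.support_eq_empty] at hN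
    rw [hN]
    exact real_zero hF
  | succ N ih =>
    obtain ⟨i, hi⟩ := Finset.card_pos.1 (by omega : 0 < lam.support.card)
    refine real_add hF (Finsupp.mem_support_iff.1 hi) (ih _ ?_)
    rw [Finsupp.support_erase, Finset.card_erase_of_mem hi, hN, Nat.add_sub_cancel]

end real

/-! ### the class data -/

section data

variable {F : Type u} [Field F] [Fintype F] {E : Type v} [Field E] [Algebra F E] [Algebra.IsAlgebraic F E]
  [IsAlgClosed E] {q n : ℕ}

/-- the underlying matrix -/
def gmat (g : GU n F q) : Matrix (Fin n) (Fin n) F := ((g : GL (Fin n) F) : Matrix (Fin n) (Fin n) F)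

theorem gmat_st (hF : Fintype.card F = q ^ 2) (g : GU n F q) : st q (gmat g) * gmat g = 1 := (mem_GU_iff_st hF _).1 g.2

theorem gmat_isom (hF : Fintype.card F = q ^ 2) (g : GU n F q) (x y : Fin n → F) :
    hermForm n F q (Matrix.toLin' (gmat g) x) (Matrix.toLin' (gmat g) y) = hermForm n F q x y := by
  rw [Matrix.toLin'_apply, Matrix.toLin'_apply]
  exact (isom_iff_st hF _).2 (gmat_st hF g) x y

theorem isConj_of_equiv (hF : Fintype.card F = q ^ 2) {g g' : GU n F q} (φ : (Fin n → F) ≃ₗ[F] (Fin n → F))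
    (hφ : ∀ x, φ (Matrix.toLin' (gmat g) x) = Matrix.toLin' (gmat g') (φ x)) : IsConj g g' := by
  rw [gu_isConj_iff hF, isConj_iff]
  let P : GL (Fin n) F := ⟨LinearMap.toMatrix' φ.toLinearMap, LinearMap.toMatrix' φ.symm.toLinearMap, by
    rw [← LinearMap.toMatrix'_comp, ← LinearMap.toMatrix'_id]
    congr 1
    ext x : 2
    simp, by
    rw [← LinearMap.toMatrix'_comp, ← LinearMap.toMatrix'_id]
    congr 1
    ext x : 2
    simp⟩
  refine ⟨P, ?_⟩
  rw [mul_inv_eq_iff_eq_mul]
  apply Units.ext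
  change LinearMap.toMatrix' φ.toLinearMap * gmat g = gmat g' * LinearMap.toMatrix' φ.toLinearMap
  apply Matrix.toLin'.injective
  rw [Matrix.toLin'_mul, Matrix.toLin'_mul, Matrix.toLin'_toMatrix']
  exact LinearMap.ext hφ

theorem isConj_of_tyF (hF : Fintype.card F = q ^ 2) {g g' : GU n F q}
    (h : (tyF hF (Matrix.toLin' (gmat g)) : Ty (OI E hF)) = tyF hF (Matrix.toLin' (gmat g'))) : IsConj g g' := by
  have hh := hf_std (q := q) hF n
  obtain ⟨φ, hφ⟩ := exists_equiv_of_finrank (Matrix.toLin' (gmat g)) (Matrix.toLin' (gmat g')) (fun φ hφ hirr j => by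
    refine kd_eq_of_col hφ hirr ?_ j
    by_cases h0 : φ.coeff 0 = 0
    · rw [eq_X_of_coeff hφ hirr h0, col_X (isom_injective hh (gmat_isom hF g)),
        col_X (isom_injective hh (gmat_isom hF g'))]
    · obtain ⟨x, rfl⟩ := exists_root (E := E) hφ hirr h0
      rw [← tyF_mk hF hh (gmat_isom hF g), ← tyF_mk hF hh (gmat_isom hF g'), h])
  exact isConj_of_equiv hF φ hφ

theorem tyF_conj (hF : Fintype.card F = q ^ 2) (g h : GU n F q) :
    (tyF hF (Matrix.toLin' (gmat (h * g * h⁻¹))) : Ty (OI E hF)) = tyF hF (Matrix.toLin' (gmat g)) := by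
  have h1 : gmat h * gmat h⁻¹ = 1 := by
    change gmat (h * h⁻¹) = 1
    rw [mul_inv_cancel]
    rfl
  have h2 : gmat h⁻¹ * gmat h = 1 := by
    change gmat (h⁻¹ * h) = 1
    rw [inv_mul_cancel]
    rfl
  let φ : (Fin n → F) ≃ₗ[F] (Fin n → F) := Matrix.toLin'OfInv h2 h1
  refine (tyF_congr hF φ fun x => ?_).symm
  change Matrix.toLin' (gmat h) (Matrix.toLin' (gmat g) x) =
    Matrix.toLin' (gmat h * gmat g * gmat h⁻¹) (Matrix.toLin' (gmat h) x)
  rw [← Matrix.toLin'_mul_apply, ← Matrix.toLin'_mul_apply, mul_assoc, h2, mul_one]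

theorem card_class {G : Type*} [Group G] [Finite G] (g : G) :
    Nat.card {x : G // IsConj g x} * Nat.card (Subgroup.centralizer ({g} : Set G)) = Nat.card G := by
  have h1 := (MulAction.stabilizer (ConjAct G) g).card_mul_index
  rw [MulAction.index_stabilizer, ← Subgroup.nat_card_centralizer_nat_card_stabilizer] at h1
  have h2 : (MulAction.orbit (ConjAct G) g).ncard = Nat.card {x : G // IsConj g x} := by
    rw [← Nat.card_coe_set_eq]
    refine Nat.card_congr (Equiv.subtypeEquivRight fun x => ?_)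
    rw [ConjAct.mem_orbit_conjAct, isConj_comm]
  rw [h2] at h1
  rw [mul_comm, h1]
  rfl

/-- the class data of `GU_n(q)` -/
noncomputable def typeData (hF : Fintype.card F = q ^ 2) (n : ℕ) :
    TypeData (OI.d : OI E hF → ℕ) (-(q : ℤ)) (GU n F q) n where
  typ g := tyF hF (Matrix.toLin' (gmat g))
  conj g h := tyF_conj hF g h
  deg g := by
    rw [tdeg_tyF hF (hf_std (q := q) hF n) (gmat_isom hF g), finrank_fintype_fun_eq_card, Fintype.card_fin]
  sep g g' h := isConj_of_tyF hF h
  card lam hlam := by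
    obtain ⟨m, A, hA, hAt, hAc⟩ := real_all hF lam
    have hm : m = n := by
      rw [← hlam, ← hAt, tdeg_tyF hF (hf_std (q := q) hF m) (fun x y => by
        rw [Matrix.toLin'_apply, Matrix.toLin'_apply]; exact (isom_iff_st hF A).2 hA x y),
        finrank_fintype_fun_eq_card, Fintype.card_fin]
    subst hm
    have hA' : A * st q A = 1 := mul_eq_one_comm.1 hA
    let g0 : GU m F q := ⟨⟨A, st q A, hA', hA⟩, (mem_GU_iff_st hF _).2 hA⟩
    have hg0 : gmat g0 = A := rfl
    have h1 : Nat.card {g : GU m F q // tyF hF (Matrix.toLin' (gmat g)) = lam} = Nat.card {x : GU m F q // IsConj g0 x} := by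
      refine Nat.card_congr (Equiv.subtypeEquivRight fun g => ⟨fun h => ?_, fun h => ?_⟩)
      · exact isConj_of_tyF hF (by rw [hg0, hAt, h])
      · obtain ⟨c, rfl⟩ := isConj_iff.1 h
        rw [tyF_conj, hg0, hAt]
    have hfin : Finite (GU m F q) := inferInstance
    have h2 := card_class g0
    rw [card_centralizer_eq hF] at h2
    have h3 : (Nat.card (UC (hermForm m F q) (Matrix.toLin' ((g0 : GL (Fin m) F) : Matrix (Fin m) (Fin m) F))) : ℂ) =
        (-1) ^ m * Ag OI.d (-(q : ℤ)) lam := hAc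
    have hsign : ((-(q : ℤ)).sign : ℤ) = -1 := by
      rw [Int.sign_neg, Int.sign_natCast_of_ne_zero (q_ne_zero hF)]
    rw [h1, hsign, ← h2]
    push_cast
    rw [h3]

end data

end Cfsg.Agent.H794.GUT
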