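import Cfsg.Agent.H794.GUT.Cols
import Cfsg.Agent.S2646

/-!
# The order of the centraliser of a unipotent element in terms of the column lengths (S4537, helper794)

`gl_num`, `gu_num` : the orders of the centralisers of a unipotent element of type `l` in `GL_n(k)`, `GU_n(q)` are
`ap l (|k|)` and `(-1)^|l| ap l (-q)`.
-/

set_option autoImplicit false

open Module Polynomial

namespace Cfsg.Agent.H794.GUT

open Cfsg Cfsg.Agent.H186 Cfsg.Agent.H152 Cfsg.Agent.H615.GU Cfsg.Agent.H174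

theorem ev_glp (t : ℂ) (m : ℕ) : ev t (glp m) = ∏ j ∈ Finset.range m, (t ^ m - t ^ j) := by
  rw [glp, ev, map_prod]
  exact Finset.prod_congr rfl fun j _ => by rw [map_sub, map_pow, map_pow, aeval_X]

theorem ev_ap (t : ℂ) (l : Col) {B : ℕ} (hB : ∀ j, B ≤ j → l j = 0) :
    ev t (ap l) = ∏ i ∈ Finset.range B, (t ^ (l i ^ 2 - (l i - l (i + 1)) ^ 2) * ev t (glp (l i - l (i + 1)))) := by
  rw [ap, ev, map_prod]
  refine Finset.prod_congr_of_eq_on_inter ?_ ?_ ?_ |>.trans rfl
  · intro i hi hi'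
    exfalso
    exact (Finsupp.mem_support_iff.1 hi) (hB i (by simpa using hi'))
  · intro i _ hi
    have h0 : l i = 0 := Finsupp.notMem_support_iff.1 hi
    rw [h0]
    simp
  · intro i _ _
    rw [map_mul, map_pow, aeval_X]

/-- every `Col` comes from block sizes -/
theorem exists_blocks (l : Col) : ∃ (t : ℕ) (b : Fin t → ℕ), (∀ k, 1 ≤ b k) ∧
    ∀ j, l j = (Finset.univ.filter fun k => j < b k).card := by
  classical
  let b : Fin (l 0) → ℕ := fun k => ((Finset.range l.size).filter fun j => (k : ℕ) < l j).card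
  have hkey : ∀ (k : Fin (l 0)) (j : ℕ), j < b k ↔ (k : ℕ) < l j := by
    intro k j
    have h1 : ((Finset.range l.size).filter fun j => (k : ℕ) < l j) = Finset.range (b k) := by
      refine (Finset.eq_of_subset_of_card_le ?_ (by rw [Finset.card_range])).symm
      intro i hi
      rw [Finset.mem_range] at hi
      by_contra hcon
      have h2 : ((Finset.range l.size).filter fun j => (k : ℕ) < l j) ⊆ Finset.range i := by
        intro j hj
        rw [Finset.mem_filter] at hj
        rw [Finset.mem_range]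
        by_contra hc
        apply hcon
        rw [Finset.mem_filter, Finset.mem_range]
        exact ⟨(not_lt.1 hc).trans_lt (Finset.mem_range.1 hj.1), hj.2.trans_le (l.anti (not_lt.1 hc))⟩
      have h3 := Finset.card_le_card h2
      rw [Finset.card_range] at h3
      exact absurd hi (not_lt.2 h3)
    rw [← Finset.mem_range, ← h1, Finset.mem_filter, Finset.mem_range]
    constructor
    · exact fun h => h.2
    · intro h
      refine ⟨?_, h⟩
      by_contra hc
      rw [Col.apply_of_size_le (not_lt.1 hc)] at h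
      omega
  refine ⟨l 0, b, fun k => ?_, fun j => ?_⟩
  · exact (hkey k 0).2 k.2
  · simp_rw [hkey]
    have h1 : (Finset.univ.filter fun k : Fin (l 0) => (k : ℕ) < l j).card = l j := by
      have h2 : (Finset.univ.filter fun k : Fin (l 0) => (k : ℕ) < l j).map Fin.valEmbedding = Finset.range (l j) := by
        ext i
        simp only [Finset.mem_map, Finset.mem_filter, Finset.mem_univ, true_and, Fin.valEmbedding_apply,
          Finset.mem_range]
        constructor
        · rintro ⟨k, hk, rfl⟩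
          exact hk
        · intro hi
          exact ⟨⟨i, hi.trans_le (l.anti (Nat.zero_le j))⟩, hi, rfl⟩
      rw [← Finset.card_map Fin.valEmbedding, h2, Finset.card_range]
    exact h1.symm

section

variable {t : ℕ} {b : Fin t → ℕ} {l : Col} (hl : ∀ j, l j = (Finset.univ.filter fun k => j < b k).card)

include hl in
theorem sub_eq (j : ℕ) : l j - l (j + 1) = (Finset.univ.filter fun k => b k = j + 1).card := by
  rw [hl, hl]
  have h1 : (Finset.univ.filter fun k => j < b k) =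
      (Finset.univ.filter fun k => j + 1 < b k) ∪ (Finset.univ.filter fun k => b k = j + 1) := by
    ext k
    simp only [Finset.mem_filter, Finset.mem_univ, true_and, Finset.mem_union]
    omega
  rw [h1, Finset.card_union_of_disjoint, Nat.add_sub_cancel_left]
  rw [Finset.disjoint_filter]
  intro k _ hk
  omega

include hl in
theorem size_eq_sum : l.size = ∑ k, b k := by
  classical
  rw [size_eq l (b := Finset.univ.sup b) (fun j hj => by
    rw [hl, Finset.card_eq_zero, Finset.filter_false_of_mem]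
    intro k _ hk
    have := Finset.le_sup (f := b) (Finset.mem_univ k)
    omega)]
  simp_rw [hl, Finset.card_filter]
  rw [Finset.sum_comm]
  refine Finset.sum_congr rfl fun k _ => ?_
  rw [← min_eq_sum, min_eq_right (Finset.le_sup (f := b) (Finset.mem_univ k))]

include hl in
theorem sum_sq {B : ℕ} (hB : ∀ k, b k ≤ B) : ∑ i ∈ Finset.range B, l i ^ 2 = ∑ k, ∑ k', min (b k) (b k') := by
  classical
  have h1 : ∀ i, l i ^ 2 = ∑ k, ∑ k', if i < min (b k) (b k') then 1 else 0 := by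
    intro i
    rw [sq, hl, Finset.card_filter, Finset.sum_mul_sum]
    refine Finset.sum_congr rfl fun k _ => Finset.sum_congr rfl fun k' _ => ?_
    rw [ite_zero_mul_ite_zero, mul_one]
    simp only [lt_min_iff]
  simp_rw [h1]
  rw [Finset.sum_comm]
  refine Finset.sum_congr rfl fun k _ => ?_
  rw [Finset.sum_comm]
  refine Finset.sum_congr rfl fun k' _ => ?_
  rw [← min_eq_sum, min_eq_right]
  exact (min_le_left _ _).trans (hB k)

theorem sum_sq' {B : ℕ} (hb : ∀ k, 1 ≤ b k) (hB : ∀ k, b k ≤ B) :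
    ∑ i ∈ Finset.range B, (Finset.univ.filter fun k => b k = i + 1).card ^ 2 =
      ∑ k, ∑ k', if b k = b k' then 1 else 0 := by
  classical
  have h1 : ∀ i, (Finset.univ.filter fun k => b k = i + 1).card ^ 2 =
      ∑ k, ∑ k', if b k = b k' ∧ b k = i + 1 then 1 else 0 := by
    intro i
    rw [sq, Finset.card_filter, Finset.sum_mul_sum]
    refine Finset.sum_congr rfl fun k _ => Finset.sum_congr rfl fun k' _ => ?_
    rw [ite_zero_mul_ite_zero, mul_one]
    refine if_congr ⟨fun h => ⟨h.1.trans h.2.symm, h.1⟩, fun h => ⟨h.2, h.1.symm.trans h.2⟩⟩ rfl rfl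
  simp_rw [h1]
  rw [Finset.sum_comm]
  refine Finset.sum_congr rfl fun k _ => ?_
  rw [Finset.sum_comm]
  refine Finset.sum_congr rfl fun k' _ => ?_
  have h2 := hb k
  have h3 := hB k
  by_cases h : b k = b k'
  · simp only [h, true_and, if_true]
    rw [h] at h2 h3
    rw [Finset.sum_eq_single (b k' - 1)]
    · rw [if_pos (by omega)]
    · intro i _ hi
      rw [if_neg (by omega)]
    · intro hi
      rw [Finset.mem_range] at hi
      omega
  · simp [h]

include hl in
theorem expo {B : ℕ} (hb : ∀ k, 1 ≤ b k) (hB : ∀ k, b k ≤ B) :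
    ∑ i ∈ Finset.range B, (l i ^ 2 - (l i - l (i + 1)) ^ 2) =
      ∑ k, ∑ k', (min (b k) (b k') - if b k = b k' then 1 else 0) := by
  have h1 : ∑ i ∈ Finset.range B, (l i ^ 2 - (l i - l (i + 1)) ^ 2) +
      ∑ i ∈ Finset.range B, (Finset.univ.filter fun k => b k = i + 1).card ^ 2 = ∑ i ∈ Finset.range B, l i ^ 2 := by
    rw [← Finset.sum_add_distrib]
    refine Finset.sum_congr rfl fun i _ => ?_
    rw [← sub_eq hl]
    exact Nat.sub_add_cancel (Nat.pow_le_pow_left (Nat.sub_le _ _) 2)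
  have h2 : ∑ k, ∑ k', (min (b k) (b k') - if b k = b k' then 1 else 0) +
      ∑ k, ∑ k', (if b k = b k' then 1 else 0) = ∑ k, ∑ k', min (b k) (b k') := by
    rw [← Finset.sum_add_distrib]
    refine Finset.sum_congr rfl fun k _ => ?_
    rw [← Finset.sum_add_distrib]
    refine Finset.sum_congr rfl fun k' _ => Nat.sub_add_cancel ?_
    have h3 := hb k
    have h4 := hb k'
    split_ifs with h
    · exact le_min h3 h4
    · exact Nat.zero_le _
  rw [sum_sq' hb hB, sum_sq hl hB, ← h2] at h1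
  exact Nat.add_right_cancel h1

include hl in
theorem l_zero {B : ℕ} (hB : ∀ k, b k ≤ B) (j : ℕ) (hj : B ≤ j) : l j = 0 := by
  rw [hl, Finset.card_eq_zero, Finset.filter_false_of_mem]
  intro k _ hk
  have := hB k
  omega

include hl in
/-- the general linear case -/
theorem gl_num {B : ℕ} (hb : ∀ k, 1 ≤ b k) (hB : ∀ k, b k ≤ B) {Q : ℕ} (hQ : 1 ≤ Q) :
    (((∏ i ∈ Finset.range (B + 1), ∏ j : Fin ((Finset.univ.filter (fun k : Fin t => b k = i)).card),
      (Q ^ (Finset.univ.filter (fun k : Fin t => b k = i)).card - Q ^ (j : ℕ))) *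
      Q ^ (∑ k, ∑ k', (min (b k) (b k') - if b k = b k' then 1 else 0)) : ℕ) : ℂ) = ev (Q : ℂ) (ap l) := by
  have ha : (Finset.univ.filter fun k => b k = 0).card = 0 := by
    rw [Finset.card_eq_zero, Finset.filter_false_of_mem]
    intro k _ hk
    have := hb k
    omega
  have h0 : ∀ m : ℕ, (∏ j : Fin m, (Q ^ m - Q ^ (j : ℕ))) = ∏ j ∈ Finset.range m, (Q ^ m - Q ^ j) :=
    fun m => Fin.prod_univ_eq_prod_range (fun j => Q ^ m - Q ^ j) m
  simp_rw [h0]
  rw [ev_ap _ l (l_zero hl hB), Finset.prod_mul_distrib, Finset.prod_pow_eq_pow_sum, expo hl hb hB,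
    Finset.prod_range_succ', mul_comm, ha, Finset.range_zero, Finset.prod_empty, mul_one]
  push_cast
  congr 1
  refine Finset.prod_congr rfl fun i _ => ?_
  rw [← sub_eq hl, ev_glp]
  refine Finset.prod_congr rfl fun j hj => ?_
  rw [Nat.cast_sub (Nat.pow_le_pow_right hQ (Finset.mem_range.1 hj).le)]
  push_cast
  rfl

end

/-- the order of `GU_a(q)` -/
theorem gu_glp {K : Type*} [Field K] [Fintype K] {Q : ℕ} (hK : Fintype.card K = Q ^ 2) (a : ℕ) :
    (Nat.card ↥(Cfsg.GU a K Q) : ℂ) = (-1) ^ a * ev (-(Q : ℂ)) (glp a) := by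
  have h1 := S2646.gu_formula hK a
  have h2 : (Nat.card ↥(Cfsg.GU a K Q) : ℂ) = (Q : ℂ) ^ (a * (a - 1) / 2) *
      ∏ j ∈ Finset.range a, ((Q : ℂ) ^ (j + 1) - (-1) ^ (j + 1)) := by
    have h3 := congrArg (fun z : ℤ => (z : ℂ)) h1
    rw [Fin.prod_univ_eq_prod_range (fun j => (Q : ℤ) ^ (j + 1) - (-1) ^ (j + 1)) a] at h3
    push_cast at h3
    exact h3
  rw [h2, ev_glp]
  clear h1 h2
  induction a with
  | zero => simp
  | succ a ih =>
    have e1 : (a + 1) * (a + 1 - 1) / 2 = a * (a - 1) / 2 + a := by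
      rcases a with _ | a
      · rfl
      · have h4 : (a + 1 + 1) * (a + 1 + 1 - 1) = (a + 1) * (a + 1 - 1) + (a + 1) * 2 := by
          simp only [Nat.add_sub_cancel]; ring
        rw [h4, Nat.add_mul_div_right _ _ (by norm_num)]
    rw [Finset.prod_range_succ, e1, pow_add, Finset.prod_range_succ' (fun j => (-(Q : ℂ)) ^ (a + 1) - (-(Q : ℂ)) ^ j)]
    have e2 : ∏ k ∈ Finset.range a, ((-(Q : ℂ)) ^ (a + 1) - (-(Q : ℂ)) ^ (k + 1)) =
        (-(Q : ℂ)) ^ a * ∏ k ∈ Finset.range a, ((-(Q : ℂ)) ^ a - (-(Q : ℂ)) ^ k) := by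
      have : (-(Q : ℂ)) ^ a = ∏ _k ∈ Finset.range a, (-(Q : ℂ)) := by rw [Finset.prod_const, Finset.card_range]
      conv_rhs => rw [this]
      rw [← Finset.prod_mul_distrib, ← this]
      exact Finset.prod_congr rfl fun k _ => by ring
    rw [e2, pow_zero]
    have e3 : (Q : ℂ) ^ (a * (a - 1) / 2) * (Q : ℂ) ^ a *
        ((∏ x ∈ Finset.range a, ((Q : ℂ) ^ (x + 1) - (-1) ^ (x + 1))) * ((Q : ℂ) ^ (a + 1) - (-1) ^ (a + 1))) =
        ((Q : ℂ) ^ (a * (a - 1) / 2) * ∏ x ∈ Finset.range a, ((Q : ℂ) ^ (x + 1) - (-1) ^ (x + 1))) *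
        ((Q : ℂ) ^ a * ((Q : ℂ) ^ (a + 1) - (-1) ^ (a + 1))) := by ring
    rw [e3, ih]
    have e4 : (Q : ℂ) ^ a * ((Q : ℂ) ^ (a + 1) - (-1) ^ (a + 1)) =
        (-1) * ((-(Q : ℂ)) ^ a * ((-(Q : ℂ)) ^ (a + 1) - 1)) := by
      have h5 : (-(Q : ℂ)) ^ a = (-1) ^ a * (Q : ℂ) ^ a := by rw [neg_pow]
      have h6 : (-(Q : ℂ)) ^ (a + 1) = (-1) ^ (a + 1) * (Q : ℂ) ^ (a + 1) := by rw [neg_pow]
      have h7 : ((-1 : ℂ) ^ a) * (-1) ^ a = 1 := by rw [← mul_pow]; norm_num
      have h8 : ((-1 : ℂ) ^ (a + 1)) = (-1) ^ a * (-1) := pow_succ _ _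
      rw [h5, h6, h8]
      linear_combination (-(Q : ℂ) ^ a * (Q : ℂ) ^ (a + 1)) * h7
    rw [e4]
    ring

section

variable {t : ℕ} {b : Fin t → ℕ} {l : Col} (hl : ∀ j, l j = (Finset.univ.filter fun k => j < b k).card)

theorem parity {x a : ℕ} (h : a ≤ x) : (-1 : ℂ) ^ (x ^ 2 - a ^ 2) * (-1) ^ a = (-1) ^ x := by
  obtain ⟨c, rfl⟩ := Nat.exists_eq_add_of_le h
  have h1 : (a + c) ^ 2 - a ^ 2 = c * (2 * a + c) := by
    have : (a + c) ^ 2 = a ^ 2 + c * (2 * a + c) := by ring
    omega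
  rw [h1, pow_add, mul_comm]
  congr 1
  rcases Nat.even_or_odd c with hc | hc
  · rw [(hc.mul_right _).neg_one_pow, hc.neg_one_pow]
  · rw [(hc.mul ((even_two_mul a).add_odd hc)).neg_one_pow, hc.neg_one_pow]

include hl in
/-- the unitary case -/
theorem gu_num {K : Type*} [Field K] [Fintype K] {Q : ℕ} (hK : Fintype.card K = Q ^ 2) {B : ℕ} (hb : ∀ k, 1 ≤ b k)
    (hB : ∀ k, b k ≤ B) :
    (((∏ i : Fin (B + 1), Nat.card ↥(Cfsg.GU (Finset.univ.filter (fun k : Fin t => b k = (i : ℕ))).card K Q)) *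
      Q ^ (∑ k, ∑ k', (min (b k) (b k') - if b k = b k' then 1 else 0)) : ℕ) : ℂ) =
      (-1) ^ l.size * ev (-(Q : ℂ)) (ap l) := by
  have ha : (Finset.univ.filter fun k => b k = 0).card = 0 := by
    rw [Finset.card_eq_zero, Finset.filter_false_of_mem]
    intro k _ hk
    have := hb k
    omega
  rw [ev_ap _ l (l_zero hl hB), size_eq l (l_zero hl hB), ← expo hl hb hB,
    Fin.prod_univ_eq_prod_range (fun i => Nat.card ↥(Cfsg.GU (Finset.univ.filter (fun k : Fin t => b k = i)).card K Q))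
      (B + 1), Finset.prod_range_succ', ← Finset.prod_pow_eq_pow_sum, ← Finset.prod_pow_eq_pow_sum,
    ← Finset.prod_mul_distrib]
  push_cast
  rw [gu_glp hK (Finset.univ.filter fun k => b k = 0).card, ha]
  simp only [pow_zero, glp_zero, map_one, mul_one]
  rw [← Finset.prod_mul_distrib]
  refine Finset.prod_congr rfl fun i _ => ?_
  rw [gu_glp hK, ← sub_eq hl, ← parity (Nat.sub_le (l i) (l (i + 1))), neg_pow (Q : ℂ)]
  have h7 : ∀ e : ℕ, ((-1 : ℂ) ^ e) * (-1) ^ e = 1 := fun e => by rw [← mul_pow]; norm_num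
  linear_combination (-((-1 : ℂ) ^ (l i - l (i + 1)) * ev (-(Q : ℂ)) (glp (l i - l (i + 1))) *
    (Q : ℂ) ^ (l i ^ 2 - (l i - l (i + 1)) ^ 2))) * h7 (l i ^ 2 - (l i - l (i + 1)) ^ 2)

end

end Cfsg.Agent.H794.GUT
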