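import Cfsg.Agent.H152.Tilde
import Cfsg.Agent.ClassicalGeometry.GUBasic

/-!
# The orbits of `x ↦ x ^ (-q)` on the multiplicative group of the algebraic closure (S4537, helper794)

`F` a field with `q ^ 2` elements, `E` an algebraic extension; `Phi q x = (x ^ q)⁻¹`;
`OI E q` the set of orbits, `OI.d` the size of an orbit.
* `dd_odd` : odd orbits: `deg = dd`, `x ^ (q ^ dd + 1) = 1`, `til (minpoly x) = minpoly x`;
* `dd_even` : even orbits: `2 deg = dd`, `til (minpoly x) ≠ minpoly x`;
* `mp_eq_iff`, `mp_Phi`.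
-/

set_option autoImplicit false

open Polynomial Module

namespace Cfsg.Agent.H794.GUT

open Cfsg.Agent.H152 Cfsg.Agent.ClassicalGeometry.GUBasic

universe u v

section

variable {F : Type u} [Field F] [Fintype F] {E : Type v} [Field E] [Algebra F E] [Algebra.IsAlgebraic F E] {q : ℕ}

/-- the map `x ↦ x ^ (-q)` -/
def Phi (q : ℕ) (x : Eˣ) : Eˣ := (x ^ q)⁻¹

omit [Algebra.IsAlgebraic F E] [Algebra F E] [Fintype F] [Field F] in
theorem Phi_it (n : ℕ) (x : Eˣ) : (Phi q)^[n + 1] x = Phi q ((Phi q)^[n] x) := Function.iterate_succ_apply' _ _ _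

omit [Algebra.IsAlgebraic F E] in
theorem Phi_even (hF : Fintype.card F = q ^ 2) (k : ℕ) (x : Eˣ) : (Phi q)^[2 * k] x = x ^ Fintype.card F ^ k := by
  induction k with
  | zero => simp
  | succ k ih =>
    rw [mul_add, mul_one, Function.iterate_add_apply]
    change (Phi q)^[2 * k] (Phi q (Phi q x)) = _
    have h1 : Phi q (Phi q x) = x ^ q ^ 2 := by
      rw [Phi, Phi, inv_pow, inv_inv, ← pow_mul, sq]
    rw [h1]
    have h2 : ∀ (m : ℕ) (y : Eˣ) (c : ℕ), (Phi q)^[m] (y ^ c) = ((Phi q)^[m] y) ^ c := by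
      intro m
      induction m with
      | zero => intro y c; rfl
      | succ m ih =>
        intro y c
        rw [Function.iterate_succ_apply, Function.iterate_succ_apply, ← ih]
        congr 1
        rw [Phi, Phi, ← pow_mul, mul_comm, pow_mul, inv_pow]
    rw [h2, ih, ← pow_mul, hF, ← pow_succ]

variable (F) in
/-- the minimal polynomial -/
noncomputable def mp (x : Eˣ) : F[X] := minpoly F (x : E)

omit [Fintype F] in
theorem mp_int (x : Eˣ) : IsIntegral F (x : E) := Algebra.IsIntegral.isIntegral _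

omit [Fintype F] in
theorem mp_monic (x : Eˣ) : (mp F x).Monic := minpoly.monic (mp_int x)

omit [Fintype F] in
theorem mp_irr (x : Eˣ) : Irreducible (mp F x) := minpoly.irreducible (mp_int x)

omit [Fintype F] [Algebra.IsAlgebraic F E] in
theorem mp_aeval (x : Eˣ) : aeval (x : E) (mp F x) = 0 := minpoly.aeval F (x : E)

omit [Fintype F] in
theorem mp_coeff_zero (x : Eˣ) : (mp F x).coeff 0 ≠ 0 := by
  exact minpoly.coeff_zero_ne_zero (mp_int x) x.ne_zero

omit [Fintype F] [Algebra.IsAlgebraic F E] in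
theorem mp_eq_of_root {x : Eˣ} {φ : F[X]} (hφ : φ.Monic) (hirr : Irreducible φ) (h : aeval (x : E) φ = 0) :
    mp F x = φ := (minpoly.eq_of_irreducible_of_monic hirr h hφ).symm

/-- the Frobenius -/
noncomputable def fr (F : Type u) [Field F] [Fintype F] (E : Type v) [Field E] [Algebra F E] : E →ₐ[F] E :=
  FiniteField.frobeniusAlgHom F E

omit [Algebra.IsAlgebraic F E] in
theorem fr_pow (k : ℕ) (x : E) : (fr F E ^ k) x = x ^ Fintype.card F ^ k := by
  induction k with
  | zero => simp
  | succ k ih =>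
    rw [pow_succ', AlgHom.mul_apply, ih, pow_succ, pow_mul]
    rfl

theorem pow_card_deg (x : Eˣ) : x ^ Fintype.card F ^ (mp F x).natDegree = x := by
  have hint := mp_int (F := F) x
  have hfd : FiniteDimensional F (IntermediateField.adjoin F {(x : E)}) := IntermediateField.adjoin.finiteDimensional hint
  have : Finite (IntermediateField.adjoin F {(x : E)}) := Module.finite_of_finite F
  have : Fintype (IntermediateField.adjoin F {(x : E)}) := Fintype.ofFinite _
  have hcard : Fintype.card (IntermediateField.adjoin F {(x : E)}) = Fintype.card F ^ (mp F x).natDegree := by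
    rw [Module.card_eq_pow_finrank (K := F), IntermediateField.adjoin.finrank hint]
    rfl
  have h1 := FiniteField.pow_card (IntermediateField.AdjoinSimple.gen F (x : E))
  rw [hcard] at h1
  have h2 := congrArg (algebraMap (IntermediateField.adjoin F {(x : E)}) E) h1
  rw [map_pow, IntermediateField.AdjoinSimple.algebraMap_gen] at h2
  exact Units.ext (by rw [Units.val_pow_eq_pow_val]; exact h2)

theorem deg_le_of_pow {x : Eˣ} {r : ℕ} (hr : 0 < r) (h : x ^ Fintype.card F ^ r = x) : (mp F x).natDegree ≤ r := by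
  classical
  have hint := mp_int (F := F) x
  have hfd : FiniteDimensional F (IntermediateField.adjoin F {(x : E)}) := IntermediateField.adjoin.finiteDimensional hint
  have : Finite (IntermediateField.adjoin F {(x : E)}) := Module.finite_of_finite F
  have : Fintype (IntermediateField.adjoin F {(x : E)}) := Fintype.ofFinite _
  have hcard : Fintype.card (IntermediateField.adjoin F {(x : E)}) = Fintype.card F ^ (mp F x).natDegree := by
    rw [Module.card_eq_pow_finrank (K := F), IntermediateField.adjoin.finrank hint]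
    rfl
  have h1 : 1 < Fintype.card F := Fintype.one_lt_card
  -- all elements of `F(x)` are fixed
  have hfix : ∀ z ∈ IntermediateField.adjoin F {(x : E)}, (fr F E ^ r) z = z := by
    intro z hz
    induction hz using IntermediateField.adjoin_induction with
    | mem y hy =>
      rw [Set.mem_singleton_iff] at hy
      rw [hy, fr_pow, ← Units.val_pow_eq_pow_val, h]
    | algebraMap c => exact AlgHom.commutes _ _
    | add y z _ _ hy hz => rw [map_add, hy, hz]
    | inv y _ hy => rw [map_inv₀, hy]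
    | mul y z _ _ hy hz => rw [map_mul, hy, hz]
  have hq2 : 1 < Fintype.card F ^ r := Nat.one_lt_pow hr.ne' h1
  have hX0 : (X ^ (Fintype.card F ^ r) - X : (IntermediateField.adjoin F {(x : E)})[X]) ≠ 0 :=
    FiniteField.X_pow_card_sub_X_ne_zero _ hq2
  have h2 : (Finset.univ : Finset (IntermediateField.adjoin F {(x : E)})).card ≤
      (X ^ (Fintype.card F ^ r) - X : (IntermediateField.adjoin F {(x : E)})[X]).natDegree := by
    refine le_trans ?_ (Polynomial.card_roots' _)
    refine (Multiset.card_le_card ?_ :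
      Multiset.card (Finset.univ : Finset (IntermediateField.adjoin F {(x : E)})).val ≤ _)
    rw [Finset.val_le_iff_val_subset]
    intro z _
    rw [Polynomial.mem_roots hX0]
    have h3 := hfix z.1 z.2
    rw [fr_pow] at h3
    have h4 : z ^ Fintype.card F ^ r = z := Subtype.ext h3
    simp [h4]
  rw [FiniteField.X_pow_card_sub_X_natDegree_eq _ hq2, Finset.card_univ, hcard] at h2
  exact (Nat.pow_le_pow_iff_right h1).1 h2

theorem pow_eq_iff (x : Eˣ) (k : ℕ) : x ^ Fintype.card F ^ k = x ↔ (mp F x).natDegree ∣ k := by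
  set e := (mp F x).natDegree with he
  have hmul : ∀ m, x ^ Fintype.card F ^ (e * m) = x := by
    intro m
    induction m with
    | zero => simp
    | succ m ih => rw [mul_add, mul_one, pow_add, pow_mul, ih, he, pow_card_deg]
  constructor
  · intro h
    rw [Nat.dvd_iff_mod_eq_zero]
    by_contra hne
    have he0 : 0 < e := (mp_irr (F := F) x).natDegree_pos
    have h1 : x ^ Fintype.card F ^ (k % e) = x := by
      conv_rhs => rw [← h, ← Nat.mod_add_div k e, add_comm, pow_add, pow_mul, hmul]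
    have h2 := deg_le_of_pow (Nat.pos_of_ne_zero hne) h1
    have h3 := Nat.mod_lt k he0
    omega
  · rintro ⟨m, rfl⟩
    exact hmul m

omit [Algebra.IsAlgebraic F E] in
theorem mp_pow (x : Eˣ) (k : ℕ) : mp F (x ^ Fintype.card F ^ k) = mp F x := by
  have h1 := minpoly.algHom_eq (fr F E ^ k) (fr F E ^ k).injective (x : E)
  rw [fr_pow] at h1
  rw [mp, mp, Units.val_pow_eq_pow_val, h1]

theorem mp_eq_iff {x y : Eˣ} : mp F x = mp F y ↔ ∃ k, y = x ^ Fintype.card F ^ k := by
  classical
  constructor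
  · intro h
    set e := (mp F x).natDegree with he
    have he0 : 0 < e := (mp_irr (F := F) x).natDegree_pos
    by_contra hcon
    push Not at hcon
    let S : Finset E := insert (y : E) ((Finset.range e).image fun k => ((x ^ Fintype.card F ^ k : Eˣ) : E))
    have hinj : Set.InjOn (fun k => ((x ^ Fintype.card F ^ k : Eˣ) : E)) (Finset.range e : Set ℕ) := by
      have key : ∀ i j, i < e → j < e → i < j → x ^ Fintype.card F ^ i ≠ x ^ Fintype.card F ^ j := by
        intro i j _ hj hij heq
        obtain ⟨c, rfl⟩ := Nat.exists_eq_add_of_lt hij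
        have h1 : x ^ Fintype.card F ^ (c + 1) = x := by
          apply Units.ext
          have h2 : (fr F E ^ i) ((x ^ Fintype.card F ^ (c + 1) : Eˣ) : E) = (fr F E ^ i) (x : E) := by
            rw [fr_pow, fr_pow, ← Units.val_pow_eq_pow_val, ← Units.val_pow_eq_pow_val, heq, ← pow_mul, ← pow_add]
            congr 2
            congr 1
            omega
          exact (fr F E ^ i).injective h2
        have h3 := deg_le_of_pow (Nat.succ_pos c) h1
        omega
      intro i hi j hj hij
      rw [Finset.coe_range, Set.mem_Iio] at hi hj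
      have hij' : x ^ Fintype.card F ^ i = x ^ Fintype.card F ^ j := Units.ext hij
      rcases lt_trichotomy i j with h1 | h1 | h1
      · exact absurd hij' (key i j hi hj h1)
      · exact h1
      · exact absurd hij'.symm (key j i hj hi h1)
    have hS : S.card = e + 1 := by
      rw [Finset.card_insert_of_notMem, Finset.card_image_of_injOn hinj, Finset.card_range]
      rw [Finset.mem_image]
      rintro ⟨k, _, hk⟩
      exact hcon k (Units.ext hk.symm)
    have hne : (mp F x).map (algebraMap F E) ≠ 0 := Polynomial.map_ne_zero (mp_monic x).ne_zero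
    have hsub : S.val ≤ ((mp F x).map (algebraMap F E)).roots := by
      rw [Finset.val_le_iff_val_subset]
      intro z hz
      rw [Polynomial.mem_roots hne, IsRoot.def, eval_map_algebraMap]
      have hz' : z ∈ S := hz
      rw [Finset.mem_insert, Finset.mem_image] at hz'
      rcases hz' with rfl | ⟨k, _, rfl⟩
      · rw [h]; exact mp_aeval y
      · rw [← mp_pow x k]; exact mp_aeval _
    have h4 := (Multiset.card_le_card hsub).trans (Polynomial.card_roots' _)
    rw [natDegree_map] at h4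
    have h5 : Multiset.card S.val = S.card := rfl
    omega
  · rintro ⟨k, rfl⟩
    exact (mp_pow x k).symm

theorem mp_Phi (hF : Fintype.card F = q ^ 2) (σ : F →+* F) (hσ : ∀ x, σ x = x ^ q) (x : Eˣ) :
    mp F (Phi q x) = til σ (mp F x) := by
  have hσσ : ∀ x, σ (σ x) = x := fun x => by rw [hσ, hσ, ← pow_mul, ← sq, ← hF, FiniteField.pow_card]
  refine mp_eq_of_root (til_monic σ (mp_coeff_zero x))
    (til_irreducible σ hσσ (mp_monic x) (mp_coeff_zero x) (mp_irr x)) ?_
  have h1 := aeval_reverse (x ^ q) ((mp F x).map σ)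
  have hCh : ∃ p, Nat.Prime p ∧ CharP F p ∧ ∃ m, q = p ^ m := by
    obtain ⟨p, hp⟩ := CharP.exists F
    obtain ⟨k, hpp, hk⟩ := FiniteField.card F p
    obtain ⟨m, -, hm⟩ := (Nat.dvd_prime_pow hpp).1 (show q ∣ p ^ (k : ℕ) from ⟨q, by rw [← hk, hF, sq]⟩)
    exact ⟨p, hpp, hp, m, hm⟩
  obtain ⟨p, hpp, hp, m, rfl⟩ := hCh
  have : Fact p.Prime := ⟨hpp⟩
  have : CharP E p := charP_of_injective_algebraMap (algebraMap F E).injective p
  have h2 : aeval ((x ^ p ^ m : Eˣ) : E) ((mp F x).map σ) = (aeval (x : E) (mp F x)) ^ p ^ m := by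
    rw [aeval_def, eval₂_map, aeval_def, Units.val_pow_eq_pow_val]
    have h3 : (algebraMap F E).comp σ = (iterateFrobenius E p m).comp (algebraMap F E) := by
      ext c
      rw [RingHom.comp_apply, RingHom.comp_apply, hσ, map_pow, iterateFrobenius_def]
    rw [h3]
    have h4 := (Polynomial.hom_eval₂ (mp F x) (algebraMap F E) (iterateFrobenius E p m) (x : E)).symm
    rw [iterateFrobenius_def, iterateFrobenius_def] at h4
    exact h4
  rw [h2, mp_aeval, zero_pow (pow_ne_zero _ hpp.ne_zero)] at h1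
  have h5 : aeval ((Phi (p ^ m) x : Eˣ) : E) ((mp F x).map σ).reverse = 0 := by
    rcases mul_eq_zero.1 h1 with h | h
    · exact h
    · exact absurd h (pow_ne_zero _ (Units.ne_zero _))
  rw [til, map_mul, h5, mul_zero]

/-! ### orbits -/

theorem mem_periodic (hF : Fintype.card F = q ^ 2) (x : Eˣ) : x ∈ Function.periodicPts (Phi q) := by
  refine Function.mk_mem_periodicPts (n := 2 * (mp F x).natDegree) ?_ ?_
  · have := (mp_irr (F := F) x).natDegree_pos
    omega
  · rw [Function.IsPeriodicPt, Function.IsFixedPt, Phi_even hF, pow_card_deg]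

/-- the size of the orbit -/
noncomputable def dd (q : ℕ) (x : Eˣ) : ℕ := Function.minimalPeriod (Phi q) x

theorem dd_pos (hF : Fintype.card F = q ^ 2) (x : Eˣ) : 0 < dd q x :=
  Function.minimalPeriod_pos_of_mem_periodicPts (mem_periodic hF x)

theorem dd_dvd_iff (hF : Fintype.card F = q ^ 2) (x : Eˣ) (k : ℕ) : dd q x ∣ 2 * k ↔ (mp F x).natDegree ∣ k := by
  rw [← pow_eq_iff, ← Phi_even hF, dd, ← Function.isPeriodicPt_iff_minimalPeriod_dvd]
  rfl

theorem dd_cases (hF : Fintype.card F = q ^ 2) (x : Eˣ) :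
    (Odd (dd q x) ∧ (mp F x).natDegree = dd q x) ∨ (Even (dd q x) ∧ 2 * (mp F x).natDegree = dd q x) := by
  have h2 := (dd_dvd_iff hF x (mp F x).natDegree).2 dvd_rfl
  rcases Nat.even_or_odd (dd q x) with h | h
  · right
    refine ⟨h, ?_⟩
    obtain ⟨c, hc⟩ := h
    have hc' : dd q x = 2 * c := by omega
    have h1 : (mp F x).natDegree ∣ c := (dd_dvd_iff hF x c).1 (by rw [hc'])
    rw [hc'] at h2 ⊢
    have h3 : c ∣ (mp F x).natDegree := Nat.dvd_of_mul_dvd_mul_left (by norm_num) h2
    rw [Nat.dvd_antisymm h1 h3]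
  · left
    refine ⟨h, ?_⟩
    have h1 : (mp F x).natDegree ∣ dd q x := (dd_dvd_iff hF x _).1 (Dvd.intro_left 2 rfl)
    have h3 : dd q x ∣ (mp F x).natDegree := (Nat.Coprime.dvd_of_dvd_mul_left (by
      rw [Nat.coprime_comm, Nat.coprime_two_left]; exact h) h2)
    exact Nat.dvd_antisymm h1 h3

theorem mp_Phi_eq_iff (hF : Fintype.card F = q ^ 2) (x : Eˣ) : mp F (Phi q x) = mp F x ↔ Odd (dd q x) := by
  constructor
  · intro h
    obtain ⟨k, hk⟩ := mp_eq_iff.1 h.symm
    rw [← Phi_even hF] at hk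
    have h1 : (Phi q)^[1 % dd q x] x = (Phi q)^[(2 * k) % dd q x] x := by
      rw [dd, Function.iterate_mod_minimalPeriod_eq, Function.iterate_mod_minimalPeriod_eq, ← hk]
      rfl
    have hpos := dd_pos hF x
    have h2 : 1 % dd q x = 2 * k % dd q x :=
      (Function.iterate_eq_iterate_iff_of_lt_minimalPeriod (Nat.mod_lt _ hpos) (Nat.mod_lt _ hpos)).1 h1
    by_contra hne
    obtain ⟨c, hc⟩ := Nat.not_odd_iff_even.1 hne
    have h3 : dd q x = 2 * c := by omega
    rw [h3] at h2
    have h4 : (1 % (2 * c)) % 2 = (2 * k % (2 * c)) % 2 := by rw [h2]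
    rw [Nat.mod_mul_right_mod, Nat.mod_mul_right_mod] at h4
    omega
  · rintro ⟨k, hk⟩
    obtain ⟨σ, hσ⟩ := exists_powHom hF
    have h1 : (Phi q)^[dd q x] x = x := Function.isPeriodicPt_minimalPeriod _ _
    rw [hk, Phi_it, Phi_even hF] at h1
    have h2 := congrArg (mp F) h1
    rw [mp_Phi hF σ hσ, mp_pow, ← mp_Phi hF σ hσ] at h2
    exact h2

omit [Algebra.IsAlgebraic F E] in
theorem pow_odd_eq (hF : Fintype.card F = q ^ 2) (x : Eˣ) (h : Odd (dd q x)) : x ^ (q ^ dd q x + 1) = 1 := by
  obtain ⟨k, hk⟩ := h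
  have h1 : (Phi q)^[dd q x] x = x := Function.isPeriodicPt_minimalPeriod _ _
  rw [hk, Phi_it, Phi_even hF, Phi, inv_eq_iff_mul_eq_one, ← pow_mul, hF, ← pow_mul,
    ← pow_succ, ← pow_succ] at h1
  rw [hk]
  exact h1

/-- the orbit relation -/
def orel (hF : Fintype.card F = q ^ 2) : Setoid Eˣ where
  r x y := ∃ k : ℕ, (Phi q)^[k] x = y
  iseqv :=
    { refl := fun x => ⟨0, rfl⟩
      symm := fun {x y} h => by
        obtain ⟨k, rfl⟩ := h
        have hpos := dd_pos hF x
        refine ⟨k * dd q x - k, ?_⟩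
        rw [← Function.iterate_add_apply, Nat.sub_add_cancel (Nat.le_mul_of_pos_right k hpos), mul_comm]
        exact (Function.isPeriodicPt_minimalPeriod (Phi q) x).mul_const k
      trans := fun {x y z} h h' => by
        obtain ⟨k, rfl⟩ := h
        obtain ⟨k', rfl⟩ := h'
        exact ⟨k' + k, Function.iterate_add_apply _ _ _ _⟩ }

/-- the set of orbits -/
def OI (E : Type v) [Field E] [Algebra F E] [Algebra.IsAlgebraic F E] (hF : Fintype.card F = q ^ 2) : Type v :=
  Quotient (orel (E := E) hF)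

/-- the orbit of an element -/
def OI.mk (hF : Fintype.card F = q ^ 2) (x : Eˣ) : OI E hF := Quotient.mk (orel hF) x

/-- a representative -/
noncomputable def OI.rep {hF : Fintype.card F = q ^ 2} (i : OI E hF) : Eˣ := Quotient.out i

theorem OI.mk_rep {hF : Fintype.card F = q ^ 2} (i : OI E hF) : OI.mk hF i.rep = i := Quotient.out_eq i

theorem OI.mk_eq_iff {hF : Fintype.card F = q ^ 2} {x y : Eˣ} : OI.mk hF x = OI.mk hF y ↔ ∃ k : ℕ, (Phi q)^[k] x = y :=
  Quotient.eq (r := orel hF)

/-- the size of an orbit -/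
noncomputable def OI.d {hF : Fintype.card F = q ^ 2} (i : OI E hF) : ℕ := dd q i.rep

theorem OI.d_mk (hF : Fintype.card F = q ^ 2) (x : Eˣ) : (OI.mk hF x).d = dd q x := by
  obtain ⟨k, hk⟩ := OI.mk_eq_iff.1 (OI.mk_rep (OI.mk hF x)).symm
  rw [OI.d, ← hk, dd, Function.minimalPeriod_apply_iterate (mem_periodic hF x)]
  rfl

theorem OI.mk_of_mp (hF : Fintype.card F = q ^ 2) {x y : Eˣ} (h : mp F x = mp F y) : OI.mk hF x = OI.mk hF y := by
  obtain ⟨k, hk⟩ := mp_eq_iff.1 h
  exact OI.mk_eq_iff.2 ⟨2 * k, by rw [Phi_even hF, hk]⟩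

/-- the minimal polynomials in an orbit -/
theorem mp_of_mk_eq (hF : Fintype.card F = q ^ 2) {x y : Eˣ} (h : OI.mk hF x = OI.mk hF y) :
    mp F y = mp F x ∨ mp F y = mp F (Phi q x) := by
  obtain ⟨σ, hσ⟩ := exists_powHom hF
  obtain ⟨k, rfl⟩ := OI.mk_eq_iff.1 h
  rcases Nat.even_or_odd' k with ⟨c, rfl | rfl⟩
  · left
    rw [Phi_even hF, mp_pow]
  · right
    rw [Phi_it, mp_Phi hF σ hσ, Phi_even hF, mp_pow, ← mp_Phi hF σ hσ]

theorem OI.mk_Phi (hF : Fintype.card F = q ^ 2) (x : Eˣ) : OI.mk hF (Phi q x) = OI.mk hF x :=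
  (OI.mk_eq_iff.2 ⟨1, rfl⟩).symm

theorem OI.ncard_eq (hF : Fintype.card F = q ^ 2) (x : Eˣ) : {y | OI.mk hF y = OI.mk hF x}.ncard = dd q x := by
  have h1 : {y | OI.mk hF y = OI.mk hF x} = (fun k => (Phi q)^[k] x) '' (Set.Iio (dd q x)) := by
    ext y
    rw [Set.mem_ofPred_eq, eq_comm, OI.mk_eq_iff, Set.mem_image]
    constructor
    · rintro ⟨k, rfl⟩
      exact ⟨k % dd q x, Nat.mod_lt _ (dd_pos hF x), Function.iterate_mod_minimalPeriod_eq⟩
    · rintro ⟨k, _, rfl⟩
      exact ⟨k, rfl⟩
  have h2 : Set.InjOn (fun k => (Phi q)^[k] x) (Set.Iio (dd q x)) := Function.iterate_injOn_Iio_minimalPeriod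
  rw [h1, h2.ncard_image, Set.ncard_Iio_nat]

end

end Cfsg.Agent.H794.GUT
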