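import Cfsg.Agent.H794.GUT.Ext
import Cfsg.Agent.H794.GUT.Num
import Cfsg.Agent.H794.GUT.Orb

/-!
# The two elementary models (class data of `GU_n(q)`, S4537, helper794)

`K / F` generated by `θ`, `u` a unipotent operator of type `l` on `K^m`.
* `odd_model` : `|K| = (q^d)^2`, `d` odd, `θ^(q^d+1) = 1` : a hermitian `F`-space with an isometry of type `l` at the
  minimal polynomial of `θ`, with centraliser of order `(-1)^|l| ap l (-q^d)`;
* `even_model` : the hyperbolic space.
-/

set_option autoImplicit false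

open Module Polynomial

namespace Cfsg.Agent.H794.GUT

open Cfsg Cfsg.Agent.H186 Cfsg.Agent.H152 Cfsg.Agent.H615.GU Cfsg.Agent.H174 Cfsg.Agent.ClassicalGeometry.GUBasic

universe u v w

section jordan

variable {K : Type v} [Field K] {m t : ℕ} {b : Fin t → ℕ}

theorem finrank_ker_jb {u : End K (Fin m → K)} {bas : Basis ((k : Fin t) × Fin (b k)) K (Fin m → K)}
    (h : IsJB (u - LinearMap.id) bas) (j : ℕ) :
    finrank K (LinearMap.ker ((u - 1) ^ j)) = ∑ i ∈ Finset.range j, (Finset.univ.filter fun k => i < b k).card := by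
  have h1 := h.finrank_range_pow j
  have h0 := h.finrank_range_pow 0
  have h2 := LinearMap.finrank_range_add_finrank_ker ((u - LinearMap.id) ^ j)
  have h3 : finrank K (LinearMap.range ((u - LinearMap.id) ^ 0)) = finrank K (Fin m → K) := by
    rw [pow_zero]
    have : LinearMap.range (1 : End K (Fin m → K)) = ⊤ := LinearMap.range_eq_top.2 fun x => ⟨x, rfl⟩
    rw [this, finrank_top]
  rw [h3] at h0
  have h4 : ∑ i ∈ Finset.range j, (Finset.univ.filter fun k => i < b k).card = ∑ k, min j (b k) := by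
    simp_rw [Finset.card_filter, min_eq_sum]
    exact Finset.sum_comm
  rw [h4]
  change finrank K (LinearMap.ker ((u - LinearMap.id) ^ j)) = _
  have h5 : ∑ k, min j (b k) + ∑ k, (b k - j) = ∑ k, (b k - 0) := by
    rw [← Finset.sum_add_distrib]
    exact Finset.sum_congr rfl fun k _ => by omega
  omega

theorem nilp_jb {u : End K (Fin m → K)} {bas : Basis ((k : Fin t) × Fin (b k)) K (Fin m → K)}
    (h : IsJB (u - LinearMap.id) bas) {B : ℕ} (hB : ∀ k, b k ≤ B) : (u - 1) ^ B = 0 := by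
  have h1 := h.finrank_range_pow B
  rw [Finset.sum_eq_zero (fun k _ => Nat.sub_eq_zero_of_le (hB k))] at h1
  exact LinearMap.range_eq_bot.1 (Submodule.finrank_eq_zero.1 h1)

end jordan

section scalar

variable {K : Type v} [Field K] [Fintype K] {m : ℕ}

theorem exists_pow_theta {U : Matrix (Fin m) (Fin m) K} {B : ℕ} (hU : (Matrix.toLin' U - 1) ^ B = 0) (θ : K) :
    ∃ N : ℕ, ∀ x, ((θ • Matrix.toLin' U : End K (Fin m → K)) ^ N) x = θ • x := by
  obtain ⟨p, hp⟩ := CharP.exists K
  obtain ⟨r, hpp, hr⟩ := FiniteField.card K p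
  have : Fact p.Prime := ⟨hpp⟩
  refine ⟨Fintype.card K ^ B, fun x => ?_⟩
  have h1 : U ^ (Fintype.card K ^ B) = 1 := by
    rw [hr, ← pow_mul]
    have h2 := sub_one_pow_char (p := p) ((r : ℕ) * B) U
    have h3 : (U - 1) ^ B = 0 := by
      apply Matrix.toLin'.injective
      rw [map_zero, Matrix.toLin'_pow, map_sub, Matrix.toLin'_one]
      exact hU
    have h4 : (U - 1) ^ p ^ ((r : ℕ) * B) = 0 := by
      refine pow_eq_zero_of_le ?_ h3
      have h5 : (r : ℕ) * B < p ^ ((r : ℕ) * B) := Nat.lt_pow_self hpp.one_lt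
      have h6 : B ≤ (r : ℕ) * B := Nat.le_mul_of_pos_left B r.pos
      omega
    rw [h4] at h2
    exact (sub_eq_zero.1 h2.symm)
  rw [_root_.smul_pow, FiniteField.pow_card_pow, ← Matrix.toLin'_pow, h1, Matrix.toLin'_one]
  rfl

theorem sub_theta (u : End K (Fin m → K)) (θ : K) :
    (θ • u : End K (Fin m → K)) - algebraMap K (End K (Fin m → K)) θ = θ • (u - 1) := by
  rw [Algebra.algebraMap_eq_smul_one, smul_sub]

theorem nilp_theta {u : End K (Fin m → K)} {B : ℕ} (hu : (u - 1) ^ B = 0) (θ : K) :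
    IsNilpotent ((θ • u : End K (Fin m → K)) - algebraMap K (End K (Fin m → K)) θ) :=
  ⟨B, by rw [sub_theta, _root_.smul_pow, hu, smul_zero]⟩

end scalar

section types

variable {F : Type u} [Field F] [Fintype F] {K : Type v} [Field K] [Fintype K] [Algebra F K] {m t : ℕ} {b : Fin t → ℕ}
  {l : Col} (hl : ∀ j, l j = (Finset.univ.filter fun k => j < b k).card)

include hl in
theorem col_theta [FiniteDimensional F (Fin m → K)] [FiniteDimensional F K] {θ : K} (hθ : θ ≠ 0)
    (hgen : finrank F K = (minpoly F θ).natDegree)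
    {u : End K (Fin m → K)} {bas : Basis ((k : Fin t) × Fin (b k)) K (Fin m → K)}
    (h : IsJB (u - LinearMap.id) bas) {φ : F[X]} (hφ : φ.Monic) (hirr : Irreducible φ) [Decidable (φ = minpoly F θ)] :
    col ((θ • u : End K (Fin m → K)).restrictScalars F : End F (Fin m → K)) φ = if φ = minpoly F θ then l else 0 := by
  have hnil := nilp_theta (nilp_jb h (B := Finset.univ.sup b) (fun k => Finset.le_sup (Finset.mem_univ k))) θ
  split_ifs with h1
  · subst h1
    ext j
    rw [col_apply _ hφ hirr, hl]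
    refine cf_of_kd (c := fun j => (Finset.univ.filter fun k => j < b k).card) hirr (fun j => ?_) j
    rw [kd_main hnil, sub_theta, _root_.smul_pow, hgen]
    congr 1
    have h2 : LinearMap.ker (θ ^ j • (u - 1) ^ j) = LinearMap.ker ((u - 1) ^ j) :=
      LinearMap.ker_smul _ _ (pow_ne_zero _ hθ)
    rw [h2, finrank_ker_jb h]
  · rw [kd_zero_iff _ hφ hirr]
    exact kd_other hnil hφ hirr h1 1

end types

/-- Jordan matrices on `Fin m` -/
theorem exists_jordan (K : Type v) [Field K] {t : ℕ} (b : Fin t → ℕ) :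
    ∃ (m : ℕ) (_ : m = ∑ k, b k) (e : ((k : Fin t) × Fin (b k)) ≃ Fin m),
      ∃ bas : Basis ((k : Fin t) × Fin (b k)) K (Fin m → K),
        IsJB (Matrix.toLin' (Matrix.reindex e e (Cfsg.jordanTypeMatrix b K)) - LinearMap.id) bas := by
  refine ⟨_, rfl, finSigmaFinEquiv, ?_⟩
  exact exists_isJB_of_isConj finSigmaFinEquiv (IsConj.refl _)

section odd

variable {F : Type u} [Field F] [Fintype F] {K : Type v} [Field K] [Fintype K] [Algebra F K] {q d : ℕ}

/-- a unitary unipotent matrix of given type -/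
theorem exists_unip {Q : ℕ} (hK : Fintype.card K = Q ^ 2) (l : Col) :
    ∃ (U : GU l.size K Q) (t : ℕ) (b : Fin t → ℕ) (_ : ∀ j, l j = (Finset.univ.filter fun k => j < b k).card)
      (bas : Basis ((k : Fin t) × Fin (b k)) K (Fin l.size → K)),
      IsJB (Matrix.toLin' ((U : GL (Fin l.size) K) : Matrix (Fin l.size) (Fin l.size) K) - LinearMap.id) bas ∧
      (Nat.card ↥(Subgroup.centralizer ({U} : Set (GU l.size K Q))) : ℂ) = (-1) ^ l.size * ev (-(Q : ℂ)) (ap l) := by
  classical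
  obtain ⟨t, b, hb, hl⟩ := exists_blocks l
  obtain ⟨m, hm, e, bas, hbas⟩ := exists_jordan K b
  have hm' : m = l.size := by rw [hm, size_eq_sum hl]
  subst hm'
  set J : Matrix (Fin l.size) (Fin l.size) K := Matrix.reindex e e (Cfsg.jordanTypeMatrix b K) with hJ
  have hnil : (Matrix.toLin' J - 1) ^ (Finset.univ.sup b) = 0 :=
    nilp_jb hbas (fun k => Finset.le_sup (Finset.mem_univ k))
  have hnilM : (J - 1) ^ (Finset.univ.sup b) = 0 := by
    apply Matrix.toLin'.injective
    rw [map_zero, Matrix.toLin'_pow, map_sub, Matrix.toLin'_one]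
    exact hnil
  have hunit : IsUnit J := by
    have h1 : IsUnit (1 + (J - 1)) := IsNilpotent.isUnit_one_add ⟨_, hnilM⟩
    rwa [add_sub_cancel] at h1
  obtain ⟨A, hA⟩ := hunit
  obtain ⟨U, hU⟩ := exists_gu_unip hK (A : GL (Fin l.size) K) (by
    change IsNilpotent ((A : Matrix (Fin l.size) (Fin l.size) K) - 1)
    rw [hA]
    exact ⟨_, hnilM⟩)
  have hconj : IsConj (Matrix.reindex e e (Cfsg.jordanTypeMatrix b K))
      ((U : GL (Fin l.size) K) : Matrix (Fin l.size) (Fin l.size) K) := by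
    rw [← hJ, ← hA]
    obtain ⟨c, hc⟩ := isConj_iff.1 hU
    refine ⟨c, ?_⟩
    change (c : Matrix (Fin l.size) (Fin l.size) K) * (A : Matrix (Fin l.size) (Fin l.size) K) = _ * _
    have h5 : c * A = U * c := by rw [← hc]; group
    exact congrArg Units.val h5
  obtain ⟨bas', hbas'⟩ := exists_isJB_of_isConj e hconj
  refine ⟨U, t, b, hl, bas', hbas', ?_⟩
  have hS : ∀ k, b k < Finset.univ.sup b + 1 := fun k =>
    Nat.lt_succ_of_le (Finset.le_sup (f := b) (Finset.mem_univ k))
  choose P hP hPs hPJ using fun n => H187.exists_form (K := K) hK n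
  have hcard := H187.card_centralizer hK hP hPs hPJ e U hconj
  rw [hcard, H187.card_unitary hK hb hS hP hPs hPJ, H174.card_par b hb]
  have h6 := gu_num hl hK hb (fun k => Finset.le_sup (f := b) (Finset.mem_univ k))
  rw [← h6]
  congr 2
  refine Finset.prod_congr rfl fun i _ => ?_
  rw [H187.card_unit_mat hK {k : Fin t // b k = (i : ℕ)} _ (Fintype.card_subtype _)]

/-- the model for odd orbits -/
theorem odd_model (hF : Fintype.card F = q ^ 2) (hd : Odd d) (hK : Fintype.card K = (q ^ d) ^ 2) {θ : K}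
    (hθ : θ ^ (q ^ d + 1) = 1) (hgen : Algebra.adjoin F {θ} = ⊤) (hdeg : finrank F K = (minpoly F θ).natDegree)
    (l : Col) :
    ∃ (h : (Fin l.size → K) → (Fin l.size → K) → F) (T : End F (Fin l.size → K)), HF q h ∧
      (∀ x y, h (T x) (T y) = h x y) ∧
      (∀ [FiniteDimensional F (Fin l.size → K)] (φ : F[X]), φ.Monic → Irreducible φ →
        (φ = minpoly F θ → col T φ = l) ∧ (φ ≠ minpoly F θ → col T φ = 0)) ∧
      (Nat.card (UC h T) : ℂ) = (-1) ^ l.size * ev (-((q : ℂ) ^ d)) (ap l) := by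
  classical
  obtain ⟨U, t, b, hl, bas, hbas, hcard⟩ := exists_unip hK l
  have hfd : FiniteDimensional F K := Module.Finite.of_finite
  set M : Matrix (Fin l.size) (Fin l.size) K := ((U : GL (Fin l.size) K) : Matrix (Fin l.size) (Fin l.size) K) with hM
  have hH := hf_std (q := q ^ d) hK l.size
  have hθ0 : θ ≠ 0 := by
    intro h0
    rw [h0, zero_pow (Nat.succ_ne_zero _)] at hθ
    exact zero_ne_one hθ
  have hnil : (Matrix.toLin' M - 1) ^ (Finset.univ.sup b) = 0 :=
    nilp_jb hbas (fun k => Finset.le_sup (Finset.mem_univ k))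
  obtain ⟨N, hN⟩ := exists_pow_theta hnil θ
  have hisoU : ∀ x y, hermForm l.size K (q ^ d) (Matrix.toLin' M x) (Matrix.toLin' M y) = hermForm l.size K (q ^ d) x y :=
    fun x y => by
      rw [Matrix.toLin'_apply, Matrix.toLin'_apply]
      exact (isom_iff_st hK _).2 ((mem_GU_iff_st hK _).1 U.2) x y
  refine ⟨fun x y => Algebra.trace F K (hermForm l.size K (q ^ d) x y),
    (θ • Matrix.toLin' M : End K (Fin l.size → K)).restrictScalars F, hf_trace hF hd hK l.size, ?_, ?_, ?_⟩
  · intro x y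
    change Algebra.trace F K (hermForm l.size K (q ^ d) (θ • Matrix.toLin' M x) (θ • Matrix.toLin' M y)) = _
    rw [hH.smul, hH.smul_right, hisoU, ← mul_assoc, ← pow_succ', hθ, one_mul]
  · intro _ φ hφ hirr
    have h1 := col_theta (F := F) hl hθ0 hdeg hbas hφ hirr
    exact ⟨fun h2 => by rw [h1, if_pos h2], fun h2 => by rw [h1, if_neg h2]⟩
  · rw [card_UC_trace hH hgen hN (fun z hz => trace_nd (F := F) z hz), UC_smul hH hθ0, ← card_centralizer_eq hK, hcard]
    push_cast
    rfl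

end odd

section even

variable {F : Type u} [Field F] [Fintype F] {K : Type v} [Field K] [Fintype K] [Algebra F K] {q : ℕ}

theorem card_comm_conj {W : Type v} [AddCommGroup W] [Module F W] {N : ℕ} (φ : W ≃ₗ[F] (Fin N → F)) (T : End F W) :
    Nat.card {B : Matrix (Fin N) (Fin N) F // IsUnit B ∧
      B * LinearMap.toMatrix' (φ.toLinearMap ∘ₗ T ∘ₗ φ.symm.toLinearMap) =
        LinearMap.toMatrix' (φ.toLinearMap ∘ₗ T ∘ₗ φ.symm.toLinearMap) * B} =
      Nat.card {b : End F W // IsUnit b ∧ b * T = T * b} := by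
  let Ψ : End F W ≃ₐ[F] Matrix (Fin N) (Fin N) F := (φ.conjAlgEquiv F).trans LinearMap.toMatrixAlgEquiv'
  have hΨ : ∀ b, Ψ b = LinearMap.toMatrix' (φ.toLinearMap ∘ₗ b ∘ₗ φ.symm.toLinearMap) := fun b => rfl
  rw [← hΨ]
  symm
  refine Nat.card_congr (Ψ.toEquiv.subtypeEquiv fun b => ?_)
  change _ ↔ IsUnit (Ψ b) ∧ Ψ b * Ψ T = Ψ T * Ψ b
  rw [← map_mul, ← map_mul, Ψ.injective.eq_iff]
  exact and_congr_left fun _ => ⟨fun h => h.map Ψ, fun h => by
    have := h.map Ψ.symm
    rwa [Ψ.symm_apply_apply] at this⟩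

theorem card_gl {t : ℕ} {b : Fin t → ℕ} {l : Col} (hb : ∀ k, 1 ≤ b k)
    (hl : ∀ j, l j = (Finset.univ.filter fun k => j < b k).card) {m : ℕ} (e : ((k : Fin t) × Fin (b k)) ≃ Fin m) :
    (Nat.card {B : End K (Fin m → K) // IsUnit B ∧ B * Matrix.toLin' (Matrix.reindex e e (Cfsg.jordanTypeMatrix b K)) =
      Matrix.toLin' (Matrix.reindex e e (Cfsg.jordanTypeMatrix b K)) * B} : ℂ) = ev (Fintype.card K : ℂ) (ap l) := by
  classical
  have hS : ∀ k, b k < Finset.univ.sup b + 1 := fun k =>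
    Nat.lt_succ_of_le (Finset.le_sup (f := b) (Finset.mem_univ k))
  rw [← gl_num hl hb (fun k => Finset.le_sup (f := b) (Finset.mem_univ k)) (Fintype.card_pos : 0 < Fintype.card K),
    ← H174.card_par b hb, ← H174.card_cent K hb hS]
  congr 1
  symm
  let Ψ : Matrix ((k : Fin t) × Fin (b k)) ((k : Fin t) × Fin (b k)) K ≃ₐ[K] End K (Fin m → K) :=
    (Matrix.reindexAlgEquiv K K e).trans Matrix.toLinAlgEquiv'
  have hΨ : ∀ M, Ψ M = Matrix.toLin' (Matrix.reindex e e M) := fun M => rfl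
  rw [← hΨ]
  refine Nat.card_congr
    { toFun := fun g => ⟨Ψ (g.1 : Matrix _ _ K), g.1.isUnit.map Ψ, by rw [← map_mul, ← map_mul, g.2]⟩
      invFun := fun B => ⟨(B.2.1.map Ψ.symm).unit, by
        rw [IsUnit.unit_spec]
        apply Ψ.injective
        change Ψ (Ψ.symm B.1 * _) = Ψ (_ * Ψ.symm B.1)
        rw [map_mul, map_mul, Ψ.apply_symm_apply]
        exact B.2.2⟩
      left_inv := fun g => ?_
      right_inv := fun B => ?_ }
  · apply Subtype.ext
    apply Units.ext
    change Ψ.symm (Ψ _) = _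
    rw [Ψ.symm_apply_apply]
  · apply Subtype.ext
    change Ψ (Ψ.symm _) = _
    rw [Ψ.apply_symm_apply]

/-- the twisted polynomial of the second component -/
theorem kd_inv (hF : Fintype.card F = q ^ 2) (σ : F →+* F) (hσ : ∀ x, σ x = x ^ q) {N : ℕ}
    {A : Matrix (Fin N) (Fin N) F} (hA : IsUnit A) (φ : F[X]) (h0 : φ.coeff 0 ≠ 0) (j : ℕ) :
    kd (Matrix.toLin' (st q A)⁻¹) (til σ φ) j = kd (Matrix.toLin' A) φ j := by
  obtain ⟨h1, h2⟩ := st_unit hF hA
  have hrank : ∀ f : F[X], f.coeff 0 ≠ 0 → (aeval (st q A)⁻¹ (til σ f)).rank = (aeval A f).rank := by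
    intro f h0
    let u : (Matrix (Fin N) (Fin N) F)ˣ := ⟨st q A, (st q A)⁻¹, h1, h2⟩
    have h3 := aeval_reverse u (f.map σ)
    have h4 : ((u⁻¹ : (Matrix (Fin N) (Fin N) F)ˣ) : Matrix (Fin N) (Fin N) F) = (st q A)⁻¹ := rfl
    have h5 : (u : Matrix (Fin N) (Fin N) F) = st q A := rfl
    rw [h4, h5, ← st_aeval hF σ hσ] at h3
    have hdet : ∀ k : ℕ, IsUnit (st q A ^ k).det := by
      intro k
      rw [Matrix.det_pow]
      apply IsUnit.pow
      rw [← h5]
      exact (Matrix.isUnit_iff_isUnit_det _).mp u.isUnit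
    have h6 : (aeval (st q A)⁻¹ (f.map σ).reverse).rank = (aeval A f).rank := by
      rw [← rank_st' hF (aeval A f), ← h3, Matrix.rank_mul_eq_left_of_isUnit_det _ _ (hdet _)]
    rw [til, map_mul, aeval_C, ← h6]
    apply Matrix.rank_mul_eq_right_of_isUnit_det
    rw [← Matrix.isUnit_iff_isUnit_det]
    exact (isUnit_iff_ne_zero.mpr (inv_ne_zero ((map_ne_zero σ).mpr h0))).map _
  rw [kd, kd, ← til_pow, aeval_toLin', aeval_toLin', finrank_ker_toLin', finrank_ker_toLin', hrank]
  rw [coeff_zero_eq_eval_zero, eval_pow, ← coeff_zero_eq_eval_zero]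
  exact pow_ne_zero _ h0

/-- the model for even orbits -/
theorem even_model (hF : Fintype.card F = q ^ 2) (σ : F →+* F) (hσ : ∀ x, σ x = x ^ q) {θ : K} (hθ0 : θ ≠ 0)
    (hgen : Algebra.adjoin F {θ} = ⊤) (hdeg : finrank F K = (minpoly F θ).natDegree)
    (htil : til σ (minpoly F θ) ≠ minpoly F θ) (l : Col) :
    ∃ (N : ℕ) (T : End F ((Fin N → F) × (Fin N → F))), N = finrank F K * l.size ∧
      (∀ x y, hyp N F q (T x) (T y) = hyp N F q x y) ∧
      (col T (minpoly F θ) = l) ∧
      (∀ φ : F[X], φ.Monic → Irreducible φ → φ.coeff 0 ≠ 0 → φ ≠ minpoly F θ → til σ φ ≠ minpoly F θ → col T φ = 0) ∧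
      (Nat.card (UC (hyp N F q) T) : ℂ) = ev (Fintype.card K : ℂ) (ap l) := by
  classical
  have hfd : FiniteDimensional F K := Module.Finite.of_finite
  have hσσ : ∀ x, σ (σ x) = x := fun x => by rw [hσ, hσ, pow_pow_q hF]
  obtain ⟨t, b, hb, hl⟩ := exists_blocks l
  obtain ⟨m, hm, e, bas, hbas⟩ := exists_jordan K b
  have hm' : m = l.size := by rw [hm, size_eq_sum hl]
  subst hm'
  set J : Matrix (Fin l.size) (Fin l.size) K := Matrix.reindex e e (Cfsg.jordanTypeMatrix b K) with hJ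
  have hnil : (Matrix.toLin' J - 1) ^ (Finset.univ.sup b) = 0 :=
    nilp_jb hbas (fun k => Finset.le_sup (Finset.mem_univ k))
  obtain ⟨n0, hn0⟩ := exists_pow_theta hnil θ
  have hfW : finrank F (Fin l.size → K) = finrank F K * l.size := by
    rw [← finrank_mul_finrank F K (Fin l.size → K), finrank_fintype_fun_eq_card, Fintype.card_fin]
  let φ : (Fin l.size → K) ≃ₗ[F] (Fin (finrank F K * l.size) → F) := (finBasisOfFinrankEq F _ hfW).equivFun
  let T1 : End F (Fin l.size → K) := (θ • Matrix.toLin' J : End K (Fin l.size → K)).restrictScalars F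
  let A : Matrix (Fin (finrank F K * l.size)) (Fin (finrank F K * l.size)) F :=
    LinearMap.toMatrix' (φ.toLinearMap ∘ₗ T1 ∘ₗ φ.symm.toLinearMap)
  have hAφ : ∀ x, φ (T1 x) = Matrix.toLin' A (φ x) := by
    intro x
    rw [Matrix.toLin'_toMatrix']
    change _ = φ (T1 (φ.symm (φ x)))
    rw [φ.symm_apply_apply]
  -- the types of the components
  have hcolA : ∀ ψ : F[X], ψ.Monic → Irreducible ψ → col (Matrix.toLin' A) ψ = if ψ = minpoly F θ then l else 0 := by
    intro ψ hψ hirr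
    rw [← col_congr φ hAφ ψ, col_theta (F := F) hl hθ0 hdeg hbas hψ hirr]
  have hθint : IsIntegral F θ := Algebra.IsIntegral.isIntegral θ
  have hfm := minpoly.monic hθint
  have hfi := minpoly.irreducible hθint
  have hf0 : (minpoly F θ).coeff 0 ≠ 0 := minpoly.coeff_zero_ne_zero hθint hθ0
  -- `A` is invertible
  have hA : IsUnit A := by
    have h1 : Function.Injective (Matrix.toLin' A) := by
      rw [← LinearMap.ker_eq_bot, ← Submodule.finrank_eq_zero]
      have h2 : col (Matrix.toLin' A) X = 0 := by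
        rw [hcolA X monic_X irreducible_X, if_neg]
        intro h3
        rw [← h3, coeff_X_zero] at hf0
        exact hf0 rfl
      rw [kd_zero_iff _ monic_X irreducible_X, kd, pow_one, aeval_X] at h2
      exact h2
    have h3 : IsUnit (Matrix.toLin' A) := (Module.End.isUnit_iff _).2 ⟨h1, LinearMap.surjective_of_injective h1⟩
    have h4 := h3.map (LinearMap.toMatrixAlgEquiv' : End F _ ≃ₐ[F] _)
    have h5 : LinearMap.toMatrixAlgEquiv' (Matrix.toLin' A) = A := LinearMap.toMatrix'_toLin' A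
    rwa [h5] at h4
  have hcolA' : ∀ ψ : F[X], ψ.Monic → Irreducible ψ → ψ.coeff 0 ≠ 0 →
      col (Matrix.toLin' (st q A)⁻¹) ψ = if til σ ψ = minpoly F θ then l else 0 := by
    intro ψ hψ hirr h0
    have ht0 := til_coeff_zero_ne σ hψ h0
    have htm := til_monic σ h0
    have hti := til_irreducible σ hσσ hψ h0 hirr
    rw [← hcolA _ htm hti]
    refine col_eq_of_kd (til_natDegree σ h0).symm hψ hirr htm hti fun j => ?_
    rw [← kd_inv hF σ hσ hA (til σ ψ) ht0, til_til σ hσσ hψ h0]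
  have hcop := exists_coprime (Matrix.toLin' A) (Matrix.toLin' (st q A)⁻¹) (fun ψ hψ hirr => by
    by_cases h1 : ψ = minpoly F θ
    · right
      rw [hcolA' ψ hψ hirr (by rw [h1]; exact hf0), if_neg]
      rw [h1]
      exact htil
    · left
      rw [hcolA ψ hψ hirr, if_neg h1])
  have hcolT : ∀ ψ : F[X], ψ.Monic → Irreducible ψ → ∀ j,
      col ((Matrix.toLin' A).prodMap (Matrix.toLin' (st q A)⁻¹) : End F _) ψ j =
        col (Matrix.toLin' A) ψ j + col (Matrix.toLin' (st q A)⁻¹) ψ j := by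
    intro ψ hψ hirr j
    rw [col_apply _ hψ hirr, cf_prod _ _ hψ hirr, col_apply _ hψ hirr, col_apply _ hψ hirr]
  refine ⟨_, (Matrix.toLin' A).prodMap (Matrix.toLin' (st q A)⁻¹), rfl, hyp_isom hF hA, ?_, ?_, ?_⟩
  · ext j
    rw [hcolT _ hfm hfi, hcolA _ hfm hfi, hcolA' _ hfm hfi hf0, if_pos rfl, if_neg htil, Col.zero_apply, add_zero]
  · intro ψ hψ hirr h0 h1 h2
    ext j
    rw [hcolT _ hψ hirr, hcolA _ hψ hirr, hcolA' _ hψ hirr h0, if_neg h1, if_neg h2, Col.zero_apply, add_zero]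
  · rw [card_UC_hyp hF (minpoly.aeval _ _) (minpoly.aeval _ _) hcop]
    change (Nat.card {B : Matrix _ _ F // IsUnit B ∧
      B * LinearMap.toMatrix' (φ.toLinearMap ∘ₗ T1 ∘ₗ φ.symm.toLinearMap) =
        LinearMap.toMatrix' (φ.toLinearMap ∘ₗ T1 ∘ₗ φ.symm.toLinearMap) * B} : ℂ) = _
    rw [card_comm_conj φ T1, card_units_restrict hgen hn0, ← card_gl hb hl e]
    congr 1
    refine Nat.card_congr (Equiv.subtypeEquivRight fun B => ?_)
    rw [mul_smul_comm, smul_mul_assoc]
    exact and_congr_right fun _ => ⟨fun h => smul_right_injective _ hθ0 h, fun h => by rw [h]⟩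

end even

end Cfsg.Agent.H794.GUT
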